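import Groth.Agent.CurveReg.Vanish
import Groth.Agent.AmpleVan.Iter
import Groth.Agent.Lib.CurveDualPrep
import Groth.Agent.ProjUPX.Affine
import Groth.Agent.QCoh.LocFree
import Groth.Agent.H23.TrivBasic

/-!
Castelnuovo's lemma on one-dimensional proper schemes: multiplication by generating sections.
-/

set_option linter.style.haveILetI false
set_option linter.unusedSectionVars false
set_option backward.isDefEq.respectTransparency false
set_option backward.isDefEq.respectTransparency.types false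

universe u

open CategoryTheory CategoryTheory.Limits AlgebraicGeometry TopologicalSpace Opposite
open Groth.Agent.PnCoh.Finite (mapLin)

noncomputable section

namespace Groth.Agent.CurveReg

open Groth.Agent Groth.Agent.InvX Groth.Agent.H23

variable {X : Scheme.{u}}

/-- A map hit locally by every section is an epimorphism. -/
theorem epi_of_local {M N : X.Modules} (φ : M ⟶ N)
    (h : ∀ (U : X.Opens) (n : Γ(N, U)), ∀ x ∈ U, ∃ (W : X.Opens) (hW : W ≤ U), x ∈ W ∧
      ∃ w : Γ(M, W), φ.app W w = AModX.res N hW n) : Epi φ := by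
  refine ⟨fun {Z} a b hab => QCoh.hom_ext_app fun U n => AModX.eq_of_locally _ _ fun p hp => ?_⟩
  obtain ⟨W, hW, hpW, w, hw⟩ := h U n p hp
  refine ⟨W, hW, hpW, ?_⟩
  rw [← AModX.app_res, ← AModX.app_res, ← hw]
  exact congr(($hab).app W w)

section Sum

variable {ι : Type} [Fintype ι] (F : ι → X.Modules) [HasBiproduct F]

/-- A section of a biproduct is the sum of its components. -/
theorem sum_components {U : X.Opens} (z : Γ(⨁ F, U)) :
    z = ∑ i, (biproduct.ι F i).app U ((biproduct.π F i).app U z) := by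
  classical
  let ev : ((⨁ F) ⟶ ⨁ F) →+ Γ(⨁ F, U) := AddMonoidHom.mk' (fun φ => φ.app U z) fun _ _ => rfl
  have h := congrArg ev (biproduct.total (f := F))
  rw [map_sum] at h
  exact h.symm

/-- Finite sums of modules without cohomology have none. -/
theorem subsingleton_HH_sum (k : Type u) [Field k] [X.Over (Spec (CommRingCat.of k))] (n : ℕ)
    (h : ∀ i, Subsingleton (Coh.HH X (F i) n)) : Subsingleton (Coh.HH X (⨁ F) n) := by
  classical
  refine subsingleton_of_forall_eq 0 fun z => ?_
  have key : ∀ s : Finset ι, mapLin k (∑ i ∈ s, biproduct.π F i ≫ biproduct.ι F i) n z = 0 := fun s => by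
    induction s using Finset.induction with
    | empty => rw [Finset.sum_empty]; exact CurveDuality.mapLin_zero k n z
    | insert a s ha ih =>
      rw [Finset.sum_insert ha, CurveDuality.mapLin_add, ih, add_zero,
        ]
      refine (PnCoh.Finite.map_map (Y := X.toPresheafedSpace.carrier) ((QCoh.toAbFunctor X).map_comp _ _).symm n z).symm.trans ?_
      haveI := h a
      exact (congrArg (mapLin k (biproduct.ι F a) n) (Subsingleton.elim (mapLin k (biproduct.π F a) n z) 0)).trans
        (map_zero _)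
  have := key Finset.univ
  rwa [biproduct.total, CurveDuality.mapLin_id] at this

end Sum

variable {G L : X.Modules} {m : ℕ} (t : Fin m → Γ(L, ⊤))

/-- The sum of the multiplications by the sections. -/
def mulAll (G : X.Modules) : (⨁ fun _ : Fin m => G) ⟶ (AmpleVan.tw L).obj G :=
  biproduct.desc fun i => AmpleVan.mulSec (t i) G

theorem mulAll_ι (G : X.Modules) (i : Fin m) {U : X.Opens} (g : Γ(G, U)) :
    (mulAll t G).app U ((biproduct.ι (fun _ : Fin m => G) i).app U g) =
      InvX.tmul g (AModX.res L (le_top : U ≤ ⊤) (t i)) :=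
  (congr(($(biproduct.ι_desc (fun i => AmpleVan.mulSec (t i) G) i)).app U g)).trans
    (AmpleVan.mulSec_app _ _ _ _)

/-- The Koszul relations. -/
def koszul (G : X.Modules) :
    (⨁ fun _ : Fin m × Fin m => G) ⟶ ⨁ fun _ : Fin m => (AmpleVan.tw L).obj G :=
  biproduct.desc fun ij => AmpleVan.mulSec (t ij.2) G ≫ biproduct.ι (fun _ : Fin m => (AmpleVan.tw L).obj G) ij.1 -
    AmpleVan.mulSec (t ij.1) G ≫ biproduct.ι (fun _ : Fin m => (AmpleVan.tw L).obj G) ij.2

theorem koszul_ι (G : X.Modules) (i j : Fin m) {U : X.Opens} (g : Γ(G, U)) :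
    (koszul t G).app U ((biproduct.ι (fun _ : Fin m × Fin m => G) (i, j)).app U g) =
      (biproduct.ι (fun _ : Fin m => (AmpleVan.tw L).obj G) i).app U (InvX.tmul g (AModX.res L (le_top : U ≤ ⊤) (t j))) -
      (biproduct.ι (fun _ : Fin m => (AmpleVan.tw L).obj G) j).app U (InvX.tmul g (AModX.res L (le_top : U ≤ ⊤) (t i))) :=
  congr(($(biproduct.ι_desc (fun ij : Fin m × Fin m => AmpleVan.mulSec (t ij.2) G ≫ biproduct.ι (fun _ : Fin m => (AmpleVan.tw L).obj G) ij.1 -
    AmpleVan.mulSec (t ij.1) G ≫ biproduct.ι (fun _ : Fin m => (AmpleVan.tw L).obj G) ij.2) (i, j))).app U g)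

theorem mulSec_comm (hL : PicF.IsInvertible L) (σ τ : Γ(L, ⊤)) (G : X.Modules) :
    AmpleVan.mulSec σ G ≫ AmpleVan.mulSec τ ((AmpleVan.tw L).obj G) =
      AmpleVan.mulSec τ G ≫ AmpleVan.mulSec σ ((AmpleVan.tw L).obj G) := by
  rw [← AmpleVan.tw_map_mulSec hL τ, ← AmpleVan.mulSec_naturality]

theorem koszul_mulAll (hL : PicF.IsInvertible L) (G : X.Modules) :
    koszul t G ≫ mulAll t ((AmpleVan.tw L).obj G) = 0 := by
  refine biproduct.hom_ext' _ _ fun ij => ?_
  rw [koszul, biproduct.ι_desc_assoc, Preadditive.sub_comp, Category.assoc, Category.assoc, mulAll,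
    biproduct.ι_desc, biproduct.ι_desc, mulSec_comm hL, sub_self, comp_zero]

theorem epi_mulAll (hG : PicF.IsInvertible G) (hL : PicF.IsInvertible L)
    (hcov : ∀ x : X, ∃ i, x ∈ TrivBasic.locus (t i)) : Epi (mulAll t G) := by
  refine epi_of_local _ fun U n x hx => ?_
  obtain ⟨i, hi⟩ := hcov x
  obtain ⟨V, hxV, f, hf⟩ := exists_frame hG x
  let W : X.Opens := U ⊓ (V ⊓ TrivBasic.locus (t i))
  have hfr := isFrame_tmul (hf.res (inf_le_right.trans inf_le_left : W ≤ V))
    (TrivBasic.isFrame_res_of_le_locus (inf_le_right.trans inf_le_right : W ≤ TrivBasic.locus (t i)))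
  obtain ⟨c, hc⟩ := hfr.exists_coord le_rfl (AModX.res (CohB1.tensorMod G L) (inf_le_left : W ≤ U) n)
  rw [AModX.res_self] at hc
  refine ⟨W, inf_le_left, ⟨hx, hxV, hi⟩,
    (biproduct.ι (fun _ : Fin m => G) i).app W (c • AModX.res G (inf_le_right.trans inf_le_left : W ≤ V) f), ?_⟩
  rw [mulAll_ι, InvX.tmul_smul_left]
  exact hc.symm

/-- The Koszul relations generate the kernel. -/
theorem exact_koszul (hG : PicF.IsInvertible G) (hL : PicF.IsInvertible L)
    (hcov : ∀ x : X, ∃ i, x ∈ TrivBasic.locus (t i)) :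
    Epi (kernel.lift (mulAll t ((AmpleVan.tw L).obj G)) (koszul t G) (koszul_mulAll t hL G)) := by
  classical
  let T := (AmpleVan.tw L).obj G
  let Φ := mulAll t T
  refine epi_of_local _ fun U n x hx => ?_
  obtain ⟨i0, hi0⟩ := hcov x
  obtain ⟨V, hxV, f, hf⟩ := exists_frame hG x
  let W : X.Opens := U ⊓ (V ⊓ TrivBasic.locus (t i0))
  have hWU : W ≤ U := inf_le_left
  have hWV : W ≤ V := inf_le_right.trans inf_le_left
  have hWl : W ≤ TrivBasic.locus (t i0) := inf_le_right.trans inf_le_right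
  let e : Γ(L, W) := AModX.res L (le_top : W ≤ ⊤) (t i0)
  have he : IsFrame e := TrivBasic.isFrame_res_of_le_locus hWl
  let f' : Γ(G, W) := AModX.res G hWV f
  have hfe : IsFrame (InvX.tmul f' e : Γ(CohB1.tensorMod G L, W)) := isFrame_tmul (hf.res hWV) he
  have hfee := isFrame_tmul hfe he
  let z := (kernel.ι Φ).app W (AModX.res (kernel Φ) hWU n)
  choose α hα using fun i => hfe.exists_coord le_rfl ((biproduct.π (fun _ : Fin m => T) i).app W z)
  choose τ hτ using fun i => he.exists_coord le_rfl (AModX.res L (le_top : W ≤ ⊤) (t i))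
  simp only [AModX.res_self] at hα hτ
  have hτ0 : τ i0 = 1 := he.coord_unique le_rfl (r := τ i0) (r' := 1) (by rw [AModX.res_self, one_smul, ← hτ])
  have hz : z = ∑ i, (biproduct.ι (fun _ : Fin m => T) i).app W (α i • InvX.tmul f' e) :=
    (sum_components _ z).trans (Finset.sum_congr rfl fun i _ => congrArg _ (hα i))
  have hrel : ∑ i, α i * τ i = 0 := by
    refine hfee.coord_unique le_rfl ?_
    rw [AModX.res_self, Finset.sum_smul, zero_smul]
    have h0 : Φ.app W z = 0 := congr(($(kernel.condition Φ)).app W (AModX.res (kernel Φ) hWU n))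
    rw [hz, map_sum] at h0
    refine Eq.trans (Finset.sum_congr rfl fun i _ => ?_) h0
    refine Eq.trans ?_ (mulAll_ι t T i _).symm
    rw [hτ, InvX.tmul_smul_right, InvX.tmul_smul_left, ← mul_smul, mul_comm]
  refine ⟨W, hWU, ⟨hx, hxV, hi0⟩,
    ∑ i, (biproduct.ι (fun _ : Fin m × Fin m => G) (i, i0)).app W (α i • f'), ?_⟩
  refine QCoh.app_injective (kernel.ι Φ) _ ?_
  show (kernel.lift Φ (koszul t G) (koszul_mulAll t hL G) ≫ kernel.ι Φ).app W _ = z
  rw [kernel.lift_ι, map_sum, hz]
  have h1 : ∀ i, (koszul t G).app W ((biproduct.ι (fun _ : Fin m × Fin m => G) (i, i0)).app W (α i • f')) =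
      (biproduct.ι (fun _ : Fin m => T) i).app W (α i • InvX.tmul f' e) -
      (biproduct.ι (fun _ : Fin m => T) i0).app W ((α i * τ i) • InvX.tmul f' e) := fun i => by
    rw [koszul_ι, hτ i, InvX.tmul_smul_left, InvX.tmul_smul_right, InvX.tmul_smul_left, ← mul_smul, mul_comm (α i)]
  refine (Finset.sum_congr rfl fun i _ => h1 i).trans ?_
  refine (Finset.sum_sub_distrib _ _).trans (sub_eq_self.2 ?_)
  refine (map_sum _ _ _).symm.trans ((congrArg _ ((Finset.sum_smul (M := Γ(CohB1.tensorMod G L, W))).symm.trans ?_)).trans (map_zero _))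
  rw [hrel, zero_smul]

variable (k : Type u) [Field k] [X.Over (Spec (CommRingCat.of k))] [IsProper (X ↘ Spec (CommRingCat.of k))]

include k in
/-- Vanishing of first cohomology passes to quotients. -/
theorem subsingleton_h1_of_epi (hdim : topologicalKrullDim X ≤ 1) {N M : X.Modules} (hN : Coh.IsQCoh N)
    (hM : Coh.IsQCoh M) (φ : N ⟶ M) [Epi φ] (h : Subsingleton (Coh.HH X N 1)) : Subsingleton (Coh.HH X M 1) := by
  haveI := CurveCohLib.isNoetherian_of_proper (k := k) (X := X)
  haveI : X.IsSeparated := ⟨by rw [← terminal.comp_from (X ↘ Spec (CommRingCat.of k))]; infer_instance⟩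
  have hS : (ShortComplex.mk (kernel.ι φ) φ (kernel.condition φ)).ShortExact :=
    ShortComplex.ShortExact.mk' (ShortComplex.exact_of_f_is_kernel _ (kernelIsKernel φ)) inferInstance inferInstance
  exact PnCoh.Finite.subsingleton_HH_X₃ hS 1 h (subsingleton_HH_ge_two hdim (QCoh.isQCoh_kernel hN hM φ) 0)

theorem isQCoh_sum {ι : Type} [Finite ι] (hG : PicF.IsInvertible G) : Coh.IsQCoh (⨁ fun _ : ι => G) := by
  refine QCoh.isQCoh_of_isFinLocFree fun x => ?_
  obtain ⟨U, hx, ⟨e⟩⟩ := hG x
  haveI := Fintype.ofFinite ι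
  haveI : (Scheme.Modules.restrictFunctor U.ι).Additive := inferInstance
  haveI := (Scheme.Modules.restrictFunctor U.ι)
  exact ⟨U, Fintype.card ι, hx, ⟨(Scheme.Modules.restrictFunctor U.ι).mapBiproduct (fun _ : ι => G) ≪≫
    biproduct.mapIso (fun _ => e) ≪≫
    biproduct.whiskerEquiv (g := fun _ : Fin (Fintype.card ι) => Coh.structureModule U.toScheme)
      (Fintype.equivFin ι) (fun _ => Iso.refl _) ≪≫ biproduct.isoCoproduct _⟩⟩

include k in
/-- Twisting by a globally generated module keeps `H¹ = 0`. -/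
theorem subsingleton_h1_tensor (hdim : topologicalKrullDim X ≤ 1) (hG : PicF.IsInvertible G)
    (hL : PicF.IsInvertible L) (hcov : ∀ x : X, ∃ i, x ∈ TrivBasic.locus (t i))
    (h : Subsingleton (Coh.HH X G 1)) : Subsingleton (Coh.HH X (CohB1.tensorMod G L) 1) := by
  haveI := epi_mulAll t hG hL hcov
  exact subsingleton_h1_of_epi k hdim (isQCoh_sum hG) (ProjUPX.isQCoh_of_isInvertible (isInvertible_tensorMod hG hL))
    (mulAll t G) (subsingleton_HH_sum _ k 1 fun _ => h)

include k in
/-- Castelnuovo's lemma: if `H¹(G) = 0` the sections of `G ⊗ L ⊗ L` are combinations of the generators. -/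
theorem exists_sum_tmul (hdim : topologicalKrullDim X ≤ 1) (hG : PicF.IsInvertible G)
    (hL : PicF.IsInvertible L) (hcov : ∀ x : X, ∃ i, x ∈ TrivBasic.locus (t i))
    (h : Subsingleton (Coh.HH X G 1)) (u : Γ(CohB1.tensorMod (CohB1.tensorMod G L) L, ⊤)) :
    ∃ a : Fin m → Γ(CohB1.tensorMod G L, ⊤), u = ∑ i, InvX.tmul (a i) (t i) := by
  let T := (AmpleVan.tw L).obj G
  have hT : PicF.IsInvertible T := isInvertible_tensorMod hG hL
  let Φ := mulAll t T
  haveI : Epi Φ := epi_mulAll t hT hL hcov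
  haveI := exact_koszul t hG hL hcov
  have hK : Subsingleton (Coh.HH X (kernel Φ) 1) :=
    subsingleton_h1_of_epi k hdim (isQCoh_sum hG)
      (QCoh.isQCoh_kernel (isQCoh_sum hT) (ProjUPX.isQCoh_of_isInvertible (isInvertible_tensorMod hT hL)) Φ)
      (kernel.lift Φ (koszul t G) (koszul_mulAll t hL G)) (subsingleton_HH_sum _ k 1 fun _ => h)
  have hS : (ShortComplex.mk (kernel.ι Φ) Φ (kernel.condition Φ)).ShortExact :=
    ShortComplex.ShortExact.mk' (ShortComplex.exact_of_f_is_kernel _ (kernelIsKernel Φ)) inferInstance inferInstance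
  obtain ⟨z, hz⟩ := QCoh.app_top_surjective_of_HH_one hS hK u
  refine ⟨fun i => (biproduct.π (fun _ : Fin m => T) i).app ⊤ z, ?_⟩
  rw [← hz]
  show Φ.app ⊤ z = _
  conv_lhs => rw [sum_components _ z, map_sum]
  exact Finset.sum_congr rfl fun i _ => (mulAll_ι t T i _).trans (by rw [AModX.res_self])

end Groth.Agent.CurveReg
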