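import Groth.Agent.CurveEmbed.Immersion
import Groth.Agent.CurveReg.Mul
import Groth.Agent.AmpleVan.Pull
import Groth.Agent.S3572
import Mathlib.AlgebraicGeometry.Morphisms.Finite

/-! Very ampleness from the multiplication of sections, on schemes which need not be integral. -/

set_option linter.style.haveILetI false
set_option linter.unusedSectionVars false
set_option backward.isDefEq.respectTransparency false
set_option backward.isDefEq.respectTransparency.types false
set_option synthInstance.maxHeartbeats 100000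

universe u

open CategoryTheory CategoryTheory.Limits AlgebraicGeometry TopologicalSpace HomogeneousLocalization Opposite

noncomputable section

namespace Groth.Agent.CurveReg

open Groth.Agent Groth.Agent.InvX Groth.Agent.H23 Groth.Agent.CurveEmbed
open scoped Groth.Agent.H23.PicMul

variable {X : Scheme.{u}}

/-- A morphism given by sections whose multiples fill the section ring is a closed immersion. -/
theorem isClosedImmersion_of_mulSpan {k : Type u} [Field k] (f : X ⟶ Spec (CommRingCat.of k)) [IsProper f]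
    {L : X.Modules} (hL : PicF.IsInvertible L)
    (hC : ∀ {C : Scheme.{u}} (j : C ⟶ X), IsClosedImmersion j → IsIntegral C →
      TrivBasic.Triv ((Scheme.Modules.pullback j).obj L) → Finite C)
    {n : ℕ} (s : Fin (n + 1) → Γ(L, ⊤))
    (hm : ∀ (m : ℕ) (u : Γ(P L (m + 1), ⊤)), ∃ a : Fin (n + 1) → Γ(P L m, ⊤),
      u = ((∑ j, InvX.tmul (a j) (s j) : Γ(CohB1.tensorMod (P L m) L, ⊤))))
    (hspan : ∀ z : Γ(L, ⊤), ∃ c : Fin (n + 1) → k,
      z = ∑ j, f.appTop ((Scheme.ΓSpecIso (CommRingCat.of k)).inv (c j)) • s j)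
    (r : X ⟶ CohB1.ProjSpace n k) (hr : r ≫ CohB1.ProjSpace.toSpec n k = f)
    (τ : (Scheme.Modules.pullback r).obj (Twist.twistProjSpace n k 1) ≅ L)
    (hτ : ∀ i, τ.hom.app ⊤ (ProjUP.pullSec r (Twist.twistProjSpace n k 1) (ProjUP.coord n k i)) = s i) :
    IsClosedImmersion r := by
  classical
  haveI : CompactSpace X := QuasiCompact.compactSpace_of_compactSpace f
  haveI : X.IsSeparated := ⟨by
    rw [← Limits.terminal.comp_from f]
    infer_instance⟩
  haveI : JacobsonSpace X := LocallyOfFiniteType.jacobsonSpace f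
  haveI : QuasiSeparatedSpace X := quasiSeparatedSpace_of_quasiSeparated f
  haveI : IsLocallyNoetherian X := LocallyOfFiniteType.isLocallyNoetherian f
  haveI : IsNoetherian X := {}
  haveI hp : IsProper (CohB1.ProjSpace.toSpec n k) := PnCoh.Chow.isProper_toSpec n k
  haveI : IsProper r := by
    haveI : IsProper (r ≫ CohB1.ProjSpace.toSpec n k) := hr ▸ ‹IsProper f›
    exact IsProper.of_comp r (CohB1.ProjSpace.toSpec n k)
  have hN : PicF.IsInvertible (Twist.twistProjSpace n k 1) :=
    PnCoh.Finite.isInvertible_twist (fun j : ULift.{u} (Fin (n + 1)) => MvPolynomial.X j.down)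
      (fun j => ProjPt.X_mem j.down) (by
        refine top_le_iff.1 ((AmpleEmbed.iSup_basicOpen_X n k).ge.trans (iSup_le fun j => ?_))
        exact le_iSup_of_le (ULift.up j) le_rfl) 1
  haveI : LocallyQuasiFinite r := AVAmple.locallyQuasiFinite_of_closed r fun q hq =>
    AVAmple.finite_preimage r hL hN τ hC q hq
  haveI : IsFinite r := IsFinite.of_isProper_of_locallyQuasiFinite r
  let D : Fin (n + 1) → (CohB1.ProjSpace n k).Opens := fun i =>
    Proj.basicOpen (CohB1.polyGrading n k) (MvPolynomial.X i)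
  let U : Fin (n + 1) → X.Opens := fun i => TrivBasic.locus (s i)
  have hpre : ∀ i, r ⁻¹ᵁ D i = U i := fun i => AmpleEmbed.preimage_chart r τ i (hτ i)
  have hDaff : ∀ i, IsAffineOpen (D i) := fun i => Proj.isAffineOpen_basicOpen _ _ (ProjPt.X_mem _) one_pos
  refine IsZariskiLocalAtTarget.of_iSup_eq_top (P := @IsClosedImmersion) D (AmpleEmbed.iSup_basicOpen_X n k) fun i => ?_
  haveI : IsAffine (D i : Scheme) := hDaff i
  haveI : IsAffine (r ⁻¹ᵁ D i : Scheme) := (hDaff i).preimage r
  refine IsClosedImmersion.of_surjective_of_isAffine _ ?_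
  let S : Subring Γ(X, U i) := (r.appLE (D i) (U i) (hpre i).ge).hom.range
  let e : Γ(L, U i) := AModX.res L (le_top : U i ≤ ⊤) (s i)
  have hconst : ∀ c : k, AModX.resR (le_top : U i ≤ ⊤) (f.appTop ((Scheme.ΓSpecIso (CommRingCat.of k)).inv c)) ∈ S :=
    fun c => by
    refine ⟨(CohB1.ProjSpace.toSpec n k).appLE ⊤ (D i) le_top ((Scheme.ΓSpecIso (CommRingCat.of k)).inv c), ?_⟩
    rw [← CommRingCat.comp_apply, Scheme.Hom.appLE_comp_appLE]
    simp only [hr]
    rfl
  have he : IsFrame e := TrivBasic.isFrame_res_of_le_locus le_rfl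
  have hj : ∀ j, ∃ β ∈ S, AModX.res L (le_top : U i ≤ ⊤) (s j) = β • e := fun j => by
    obtain ⟨β, hβ⟩ := he.exists_coord le_rfl (AModX.res L (le_top : U i ≤ ⊤) (s j))
    rw [AModX.res_self] at hβ
    refine ⟨β, ⟨(Proj.awayToSection (CohB1.polyGrading n k) (MvPolynomial.X i)).hom
      (Away.mk (CohB1.polyGrading n k) (ProjPt.X_mem _) 1 (MvPolynomial.X j)
        (by rw [one_smul]; exact ProjPt.X_mem _)), ?_⟩, hβ⟩
    exact AmpleEmbed.ratioOf_eq r τ _ _ (hτ i) (hτ j) (hpre i).ge β hβ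
  have h1 : ∀ z : Γ(L, ⊤), ∃ β ∈ S, AModX.res L (le_top : U i ≤ ⊤) z = β • e := fun z => by
    obtain ⟨c, rfl⟩ := hspan z
    rw [map_sum]
    refine Finset.sum_induction _ (fun w => ∃ β ∈ S, w = β • e) ?_ ⟨0, S.zero_mem, (zero_smul _ _).symm⟩ fun j _ => ?_
    · rintro _ _ ⟨β, hβ, rfl⟩ ⟨γ, hγ, rfl⟩
      exact ⟨β + γ, S.add_mem hβ hγ, (add_smul _ _ _).symm⟩
    · obtain ⟨β, hβ, hjβ⟩ := hj j
      refine ⟨_, S.mul_mem (hconst (c j)) hβ, ?_⟩
      rw [AModX.res_smul, hjβ, mul_smul]
  have hall : ∀ m (T : Γ(P L m, ⊤)), ∃ β ∈ S, AModX.res (P L m) (le_top : U i ≤ ⊤) T = β • E e m := by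
    intro m
    induction m with
    | zero => exact h1
    | succ m ih =>
      intro T
      obtain ⟨a, rfl⟩ := hm m T
      choose α hα ha using fun j => ih (a j)
      choose β hβ ht using hj
      refine ⟨∑ j, α j * β j, S.sum_mem fun j _ => S.mul_mem (hα j) (hβ j), ?_⟩
      show AModX.res (CohB1.tensorMod (P L m) L) _ _ = _
      rw [map_sum, Finset.sum_smul]
      refine Finset.sum_congr rfl fun j _ => ?_
      rw [InvX.res_tmul, ha, ht, InvX.tmul_smul_left, InvX.tmul_smul_right, ← mul_smul]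
      rfl
  have hsurj : Function.Surjective (r.appLE (D i) (U i) (hpre i).ge) := fun b => by
    show b ∈ S
    obtain ⟨m, T, hT⟩ := AmpleVan.exists_extend (ProjUPX.isQCoh_of_isInvertible hL) hL (ofSect (s i))
      (show Γ(L, U i) from b • e)
    rw [one_ofSect] at hT
    obtain ⟨β, hβ, hTβ⟩ := hall m T
    have h2 : b • E e m = β • E e m := ((pw_app (s i) (U i) b m).symm.trans hT.symm).trans hTβ
    rw [(isFrame_E he m).coord_unique le_rfl (r := b) (r' := β) (by rw [AModX.res_self]; exact h2)]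
    exact hβ
  intro z
  rw [morphismRestrict_appTop]
  obtain ⟨y, hy⟩ := hsurj (X.presheaf.map (eqToHom (hpre i).symm).op
    ((r ⁻¹ᵁ D i).topIso.hom z))
  refine ⟨(D i).topIso.inv y, (ConcreteCategory.bijective_of_isIso (r ⁻¹ᵁ D i).topIso.hom).1 ?_⟩
  apply (ConcreteCategory.bijective_of_isIso (X.presheaf.map (eqToHom (hpre i).symm).op)).1
  rw [← hy]
  simp only [← CommRingCat.comp_apply]
  congr 2
  simp only [Scheme.Hom.appLE, Scheme.Opens.topIso, Category.assoc]
  simp [← Functor.map_comp]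
  rw [r.naturality_assoc, ← Functor.map_comp]
  rfl

/-- The loci of the sections of a globally generated invertible module cover. -/
theorem exists_locus_of_gg {M : X.Modules} (hM : PicF.IsInvertible M) (hgg : Curv2.IsGloballyGenerated M) (x : X) :
    ∃ a : Γ(M, ⊤), x ∈ TrivBasic.locus a := by
  by_contra hcon
  push Not at hcon
  obtain ⟨ι, q, hq⟩ := hgg
  let j := X.fromSpecResidueField x
  let φ : M ⟶ (Scheme.Modules.pushforward j).obj ((Scheme.Modules.pullback j).obj M) :=
    (Scheme.Modules.pullbackPushforwardAdjunction j).unit.app M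
  have hj : ∀ z, j z = x := fun z => by
    have hz : j z ∈ Set.range j := ⟨z, rfl⟩
    rwa [Scheme.range_fromSpecResidueField] at hz
  have hiM := PicClLib.isInvertible_pullback j hM
  have h0 : ∀ a : Γ(M, ⊤), φ.app ⊤ a = 0 := fun a => by
    show (InvX.pullElt j a : Γ((Scheme.Modules.pullback j).obj M, j ⁻¹ᵁ ⊤)) = 0
    refine AmpleX.eq_zero_of_locus_eq_bot hiM _ ?_
    rw [AmpleX.locus_pullElt hM, eq_bot_iff]
    intro z hz
    obtain ⟨V, _, hxV, hV⟩ := AmpleX.mem_locus.1 (show j z ∈ AmpleX.locus a from hz)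
    rw [hj z] at hxV
    exact absurd (TrivBasic.mem_locus_iff.2 ⟨V, hxV, hV⟩) (hcon a)
  have hφ0 : φ = 0 := by
    rw [← cancel_epi q, comp_zero]
    refine Sigma.hom_ext (f := fun _ : ι => SheafOfModules.unit X.ringCatSheaf) _ _ fun i => ?_
    rw [comp_zero]
    refine CurveRR.hom_ext_one (φ := (Sigma.ι (fun _ : ι => SheafOfModules.unit X.ringCatSheaf) i ≫ q ≫ φ :
      Coh.structureModule X ⟶ _)) (ψ := 0) ?_
    exact h0 _
  obtain ⟨U, hxU, e, he⟩ := InvX.exists_frame hM x
  have hfr := InvX.isFrame_pullElt j he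
  have he0 : InvX.pullElt j e = 0 := by
    show φ.app U e = 0
    rw [hφ0]
    rfl
  have h01 : (1 : Γ(Spec (X.residueField x), j ⁻¹ᵁ U)) = 0 := by
    refine (hfr _ le_rfl).1 ?_
    simp only [AModX.res_self, he0, smul_zero]
  obtain ⟨z⟩ : Nonempty (Spec (X.residueField x)) := inferInstance
  have hz : z ∈ j ⁻¹ᵁ U := by
    show j z ∈ U
    rw [hj]; exact hxU
  rw [← Scheme.basicOpen_of_isUnit (Spec (X.residueField x)) (U := j ⁻¹ᵁ U) isUnit_one, h01,
    Scheme.basicOpen_zero] at hz
  exact hz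

/-- Finitely many sections of a globally generated invertible module already generate. -/
theorem exists_fin_cover [CompactSpace X] {M : X.Modules} (hM : PicF.IsInvertible M) (hgg : Curv2.IsGloballyGenerated M) :
    ∃ (m : ℕ) (t : Fin m → Γ(M, ⊤)), ∀ x : X, ∃ i, x ∈ TrivBasic.locus (t i) := by
  classical
  choose a ha using exists_locus_of_gg hM hgg
  obtain ⟨S, hS⟩ := isCompact_univ.elim_finite_subcover (fun x : X => (TrivBasic.locus (a x) : Set X))
    (fun x => (TrivBasic.locus (a x)).2) (fun x _ => Set.mem_iUnion.2 ⟨x, ha x⟩)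
  refine ⟨S.card, fun i => a (S.equivFin.symm i), fun x => ?_⟩
  obtain ⟨y, hy, hx⟩ := Set.mem_iUnion₂.1 (hS (Set.mem_univ x))
  exact ⟨S.equivFin ⟨y, hy⟩, by simp only [Equiv.symm_apply_apply]; exact hx⟩

/-- An ample module is trivial only on finite subschemes. -/
theorem finite_of_triv_ample {k : Type u} [Field k] (f : X ⟶ Spec (CommRingCat.of k)) [IsProper f]
    {L : X.Modules} (hL : CohB1.IsAmple L) {C : Scheme.{u}} (j : C ⟶ X) (hj : IsClosedImmersion j)
    (_ : IsIntegral C) (hT : TrivBasic.Triv ((Scheme.Modules.pullback j).obj L)) : Finite C := by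
  haveI := hj
  haveI : CompactSpace X := QuasiCompact.compactSpace_of_compactSpace f
  haveI : CompactSpace C := QuasiCompact.compactSpace_of_compactSpace (j ≫ f)
  have hA := AmpleVan.isAmple_pullback_of_isEmbedding j j.isClosedEmbedding.isEmbedding hL
  obtain ⟨φ⟩ := hT
  obtain ⟨x⟩ : Nonempty C := inferInstance
  obtain ⟨n, s, hxs, hs⟩ := hA.2.2 x
  obtain ⟨s', hs'⟩ := AmpleX.exists_section_of_cl_eq (B := Coh.structureModule C)
    (by rw [H23.PicMul.cl_tensorPow, H23.PicMul.cl_eq_iff.2 ⟨φ⟩, ← H23.PicMul.one_def, one_pow]) s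
  have hfield : IsField Γ(C, ⊤) := isField_of_universallyClosed k (j ≫ f)
  have htop : CohB1.genLocus _ s = ⊤ := by
    rw [← hs']
    obtain ⟨W, hxW, hW⟩ := InvX.mem_genLocus (hs'.symm ▸ hxs)
    let g : Γ(C, ⊤) := InvX.one s'
    have hg : g ≠ 0 := fun h0 => by
      have h1 := (hW _ le_rfl).1 (a₁ := (1 : Γ(C, W))) (a₂ := 0) (by
        simp only [AModX.res_self, one_smul, zero_smul]
        rw [show InvX.one s' = (0 : Γ(Coh.structureModule C, ⊤)) from h0, map_zero])
      haveI : Nonempty W := ⟨⟨x, hxW⟩⟩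
      exact one_ne_zero h1
    obtain ⟨b, hb⟩ := hfield.mul_inv_cancel hg
    refine top_le_iff.1 (InvX.le_genLocus _ ?_)
    rw [AModX.res_self]
    have he := (InvX.isFrame_one (X := C) ⊤).isUnit_smul (IsUnit.of_mul_eq_one b hb)
    convert he using 1
    exact (mul_one g).symm
  haveI : IsAffine C := by
    rw [htop] at hs
    haveI : IsAffine ((⊤ : C.Opens) : Scheme) := hs
    exact IsAffine.of_isIso C.topIso.inv
  haveI : IsFinite (j ≫ f) := IsFinite.iff_isProper_and_isAffineHom.2 ⟨inferInstance, isAffineHom_of_isAffine _⟩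
  haveI : Subsingleton (Spec (CommRingCat.of k)) := inferInstanceAs (Subsingleton (PrimeSpectrum k))
  obtain ⟨z⟩ : Nonempty (Spec (CommRingCat.of k)) := inferInstance
  refine Set.finite_univ_iff.1 (((j ≫ f).finite_preimage_singleton z).subset fun c _ => ?_)
  exact Subsingleton.elim ((j ≫ f) c) z

/-- An ample module whose powers are spanned by multiples of generating sections is very ample. -/
theorem exists_embedding {k : Type u} [Field k] (f : X ⟶ Spec (CommRingCat.of k)) [IsProper f]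
    {L : X.Modules} (hL : CohB1.IsAmple L) {n : ℕ} (σ : Fin (n + 1) → Γ(L, ⊤))
    (hcov : ∀ x : X, ∃ j, x ∈ TrivBasic.locus (σ j))
    (hspan : ∀ z : Γ(L, ⊤), ∃ c : Fin (n + 1) → k,
      z = ∑ j, f.appTop ((Scheme.ΓSpecIso (CommRingCat.of k)).inv (c j)) • σ j)
    (hm : ∀ (m : ℕ) (u : Γ(P L (m + 1), ⊤)), ∃ a : Fin (n + 1) → Γ(P L m, ⊤),
      u = ((∑ j, InvX.tmul (a j) (σ j) : Γ(CohB1.tensorMod (P L m) L, ⊤)))) :
    ∃ i : X ⟶ CohB1.ProjSpace n k, IsClosedImmersion i ∧ i ≫ CohB1.ProjSpace.toSpec n k = f ∧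
      Nonempty ((Scheme.Modules.pullback i).obj (Twist.twistProjSpace n k 1) ≅ L) := by
  obtain ⟨r, hr, τ, hτ⟩ := S3572.result n f L hL.1 σ (AVAmple.generatedBy_of_locus σ hcov)
  exact ⟨r, isClosedImmersion_of_mulSpan f hL.1 (finite_of_triv_ample f hL) σ hm hspan r hr τ hτ, hr, ⟨τ⟩⟩

end Groth.Agent.CurveReg
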