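import Groth.Agent.CurveReg.Nef
import Groth.Agent.CurveBC.Generated
import Groth.Agent.Triage.SchDense
import Groth.Agent.FibDim.BaseField
import Groth.Agent.InvX.GenEpi
import Groth.Agent.Lib.AVAmple
import Groth.Agent.AmpleDev.Nef
import Groth.Agent.CurveReg.Embed
import Groth.Agent.GrpSchLib.AntiAffineBC

/-!
Nef invertible modules on one-dimensional schemes without first cohomology of the structure sheaf.
-/

set_option linter.style.haveILetI false
set_option linter.unusedSectionVars false
set_option backward.isDefEq.respectTransparency false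
set_option backward.isDefEq.respectTransparency.types false

universe u

open CategoryTheory CategoryTheory.Limits AlgebraicGeometry TopologicalSpace Opposite
open Groth.Agent.PnCoh.Finite (mapLin)

noncomputable section

namespace Groth.Agent.CurveReg

open Groth.Agent Groth.Agent.InvX Groth.Agent.H23

variable (k : Type u) [Field k] {X : Scheme.{u}} [X.Over (Spec (CommRingCat.of k))]
  [IsProper (X ↘ Spec (CommRingCat.of k))] (hdim : topologicalKrullDim X ≤ 1)

include hdim in
theorem euler_eq {M : X.Modules} (hM : Coh.IsCoh M) :
    Curv2.euler k X M = (Module.finrank k (Coh.HH X M 0) : ℤ) - Module.finrank k (Coh.HH X M 1) := by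
  haveI := CurveCohLib.isNoetherian_of_proper (k := k) (X := X)
  haveI : X.IsSeparated := ⟨by rw [← terminal.comp_from (X ↘ Spec (CommRingCat.of k))]; infer_instance⟩
  rw [CurveCohLib.euler_eq_sum (k := k) (N := 2) fun i hi => by
    obtain ⟨n, rfl⟩ : ∃ n, i = n + 2 := ⟨i - 2, by omega⟩
    exact subsingleton_HH_ge_two hdim hM.1 n]
  simp [Finset.sum_range_succ]
  ring

include k hdim in
/-- On an integral scheme nonnegative degree gives generating sections. -/
theorem cover_of_deg_nonneg [IsIntegral X] (h1 : Subsingleton (Coh.HH X (Coh.structureModule X) 1)) {L : X.Modules}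
    (hL : PicF.IsInvertible L) (hd : topologicalKrullDim X = 1 → 0 ≤ Curv2.deg k X L 1) : Cover L := by
  haveI := CurveCohLib.isNoetherian_of_proper (k := k) (X := X)
  by_cases hd1 : topologicalKrullDim X = 1
  · have hpos : 0 < Module.finrank k (Coh.HH X L 0) := by
      have h0 : 0 < Module.finrank k (Coh.HH X (Coh.structureModule X) 0) := by
        haveI := CurveCohLib.finite_HH (k := k) (X := X) QCoh.isCoh_structureModule' 0
        refine Module.finrank_pos_iff_exists_ne_zero.2
          ⟨(Sheaf.H.equiv₀ (Coh.toAb (Coh.structureModule X)) isTerminalTop).symm (1 : Γ(X, ⊤)), fun h => ?_⟩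
        have h' := ((Sheaf.H.equiv₀ (Coh.toAb (Coh.structureModule X)) isTerminalTop).apply_symm_apply
          (show Γ(Coh.structureModule X, ⊤) from (1 : Γ(X, ⊤)))).symm.trans ((congrArg _ h).trans (map_zero _))
        haveI : Nonempty (⊤ : X.Opens) := ⟨⟨genericPoint X, trivial⟩⟩
        exact one_ne_zero (α := Γ(X, ⊤)) h'
      have h := hd hd1
      have hO : Curv2.euler k X (Coh.structureModule X) = Module.finrank k (Coh.HH X (Coh.structureModule X) 0) := by
        rw [euler_eq k hdim QCoh.isCoh_structureModule', Module.finrank_zero_of_subsingleton (M := Coh.HH X (Coh.structureModule X) 1)]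
        simp
      unfold Curv2.deg at h
      rw [hO, euler_eq k hdim (CurveDeg.isCoh_of_isInvertible hL)] at h
      simp at h
      omega
    haveI := CurveCohLib.finite_HH (k := k) (CurveDeg.isCoh_of_isInvertible hL) 0
    obtain ⟨z, hz⟩ := Module.finrank_pos_iff_exists_ne_zero.1 hpos
    let s : Coh.structureModule X ⟶ L := QCoh.homOfTop (Sheaf.H.equiv₀ (Coh.toAb L) isTerminalTop z)
    have hs : s ≠ 0 := fun h => hz (by
      refine (Sheaf.H.equiv₀ (Coh.toAb L) isTerminalTop).injective (Eq.trans ?_ (map_zero _).symm)
      have h2 : s.app ⊤ (1 : Γ(X, ⊤)) = 0 := by rw [h]; rfl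
      refine Eq.trans ?_ h2
      refine ((QCoh.homOfTop_app _ _).trans ?_).symm
      rw [one_smul]
      exact ConcreteCategory.congr_hom (L.presheaf.map_id _) _)
    haveI := InvEnd.mono_of_ne_zero isInvertible_structureModule hL s hs
    exact cover_of_mono k hdim h1 hL s
  · have hone : ∀ y : X, y = genericPoint X := fun y => by
      refine by_contra fun hne => hd1 (le_antisymm hdim ?_)
      let cη : IrreducibleCloseds X := ⟨closure {genericPoint X}, isIrreducible_singleton.closure, isClosed_closure⟩
      let cy : IrreducibleCloseds X := ⟨closure {y}, isIrreducible_singleton.closure, isClosed_closure⟩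
      have h : cy < cη := lt_of_le_of_ne (fun w _ => (genericPoint_spec X).def.ge trivial)
        fun e => hne ((inseparable_iff_closure_eq.2 (congrArg SetLike.coe e)).eq)
      have := Order.LTSeries.length_le_krullDim ((RelSeries.singleton _ cy).snoc cη (by simpa using h))
      simpa [topologicalKrullDim] using this
    intro x
    obtain ⟨U, hxU, e, he⟩ := exists_frame hL x
    obtain rfl : U = ⊤ := top_le_iff.1 fun y _ => by
      rw [hone y, ← hone x]
      exact hxU
    exact ⟨e, TrivBasic.le_locus (U := ⊤) (by rw [AModX.res_self]; exact he) trivial⟩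

include k hdim in
/-- Nef modules are generated by their sections. -/
theorem cover_of_nef (h1 : Subsingleton (Coh.HH X (Coh.structureModule X) 1)) {L : X.Modules}
    (hL : PicF.IsInvertible L)
    (hnef : ∀ J : X.IdealSheafData, IsIntegral J.subscheme → topologicalKrullDim J.subscheme = 1 →
      0 ≤ @Curv2.deg k _ J.subscheme ⟨J.subschemeι ≫ (X ↘ Spec (CommRingCat.of k))⟩
        ((Scheme.Modules.pullback J.subschemeι).obj L) 1) : Cover L := by
  haveI : CompactSpace X := QuasiCompact.compactSpace_of_compactSpace (X ↘ Spec (CommRingCat.of k))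
  haveI := quasiSeparatedSpace_of_quasiSeparated (X ↘ Spec (CommRingCat.of k))
  have hcurve : ∀ ξ : X, Cover ((Scheme.Modules.pullback
      (Scheme.IdealSheafData.vanishingIdeal (Closeds.closure ({ξ} : Set X))).subschemeι).obj L) := fun ξ => by
    let J := Scheme.IdealSheafData.vanishingIdeal (Closeds.closure ({ξ} : Set X))
    haveI : IsIntegral J.subscheme := QCoh.isIntegral_closure_point ξ
    letI : J.subscheme.Over (Spec (CommRingCat.of k)) := ⟨J.subschemeι ≫ (X ↘ Spec (CommRingCat.of k))⟩
    haveI : IsProper (J.subscheme ↘ Spec (CommRingCat.of k)) :=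
      inferInstanceAs (IsProper (J.subschemeι ≫ (X ↘ Spec (CommRingCat.of k))))
    exact cover_of_deg_nonneg k (le_trans J.subschemeι.isClosedEmbedding.isInducing.topologicalKrullDim_le hdim)
      (subsingleton_h1_closed k hdim h1 J.subschemeι) (PicClLib.isInvertible_pullback _ hL) (hnef J ‹_›)
  let K := AlgebraicClosure k
  let X' := Curv2.bc k X K
  let g : X' ⟶ X := Curv2.bcFst k X K
  letI : X'.Over (Spec (CommRingCat.of K)) := ⟨Curv2.bcSnd k X K⟩
  have hpb : IsPullback g (X' ↘ Spec (CommRingCat.of K)) (X ↘ Spec (CommRingCat.of k))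
      (Spec.map (CommRingCat.ofHom (algebraMap k K))) := IsPullback.of_hasPullback _ _
  haveI : IsProper (X' ↘ Spec (CommRingCat.of K)) := MorphismProperty.of_isPullback hpb inferInstance
  haveI := GrpSchLib.flat_spec_map_field (algebraMap k K)
  haveI := GrpSchLib.surjective_spec_map_field (algebraMap k K)
  haveI : Flat g := MorphismProperty.of_isPullback hpb.flip inferInstance
  haveI : Surjective g := MorphismProperty.of_isPullback hpb.flip inferInstance
  haveI := FibDim.subsingleton_spec_field k
  haveI := FibDim.subsingleton_spec_field K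
  have hdim' : topologicalKrullDim X' ≤ 1 := (FibDim.topologicalKrullDim_baseChange hpb).trans_le hdim
  have h1' : Subsingleton (Coh.HH X' (Coh.structureModule X') 1) := by
    haveI := CurveCohLib.finite_HH (k := K) (X := X') (M := Coh.structureModule X')
      (by haveI := CurveCohLib.isNoetherian_of_proper (k := K) (X := X'); exact QCoh.isCoh_structureModule') 1
    refine (Module.finrank_zero_iff (R := K)).1 ?_
    rw [CurveBC.finrank_hh_unit k K g hpb 1]
    exact Module.finrank_zero_of_subsingleton
  have hL' := PicClLib.isInvertible_pullback g hL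
  have hc : Cover ((Scheme.Modules.pullback g).obj L) := cover_of_integral K hdim' h1' hL' fun {C} j hj hC => by
    haveI := hC
    let f : C ⟶ X := j ≫ g
    let J := Scheme.IdealSheafData.vanishingIdeal (Closeds.closure ({f (genericPoint C)} : Set X))
    have hcl : (⟨closure (Set.range f), isClosed_closure⟩ : Closeds X) = Closeds.closure {f (genericPoint C)} := by
      refine Closeds.ext (subset_antisymm (closure_minimal ?_ isClosed_closure) (closure_mono ?_))
      · rintro _ ⟨c, rfl⟩
        show f c ∈ closure {f (genericPoint C)}
        rw [← specializes_iff_mem_closure]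
        exact (genericPoint_specializes c).map f.continuous
      · rintro _ rfl
        exact Set.mem_range_self _
    let l := IsClosedImmersion.lift J.subschemeι f (by
      rw [Scheme.IdealSheafData.ker_subschemeι]
      exact (congrArg Scheme.IdealSheafData.vanishingIdeal hcl).ge.trans (Triage.SchDense.vanishingIdeal_le_ker f))
    exact ((hcurve _).pullback l (PicClLib.isInvertible_pullback _ hL)).of_iso
      ((Scheme.Modules.pullbackComp l J.subschemeι).app L ≪≫
        (Scheme.Modules.pullbackCongr (IsClosedImmersion.lift_fac _ _ _)).app L ≪≫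
        ((Scheme.Modules.pullbackComp j g).app L).symm)
  haveI := CurveCohLib.isNoetherian_of_proper (k := k) (X := X)
  haveI := CurveCohLib.isNoetherian_of_proper (k := K) (X := X')
  have hgg : Curv2.IsGloballyGenerated ((Scheme.Modules.pullback g).obj L) := by
    choose z hz using hc
    exact isGloballyGenerated_of_generated (AVAmple.generatedBy_of_locus z fun x => ⟨x, hz x⟩)
  have h := CurveBC.isGloballyGenerated_of_pullback k K g hpb (ProjUPX.isQCoh_of_isInvertible hL)
    (CurveCohLib.finite_HH (CurveDeg.isCoh_of_isInvertible hL) 0)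
    (CurveCohLib.finite_HH (CurveDeg.isCoh_of_isInvertible hL') 0) hgg
  exact fun x => exists_locus_of_gg hL h x

include k hdim in
theorem subsingleton_h1_of_cover (h1 : Subsingleton (Coh.HH X (Coh.structureModule X) 1)) {L : X.Modules}
    (hL : PicF.IsInvertible L) (hc : Cover L) : Subsingleton (Coh.HH X L 1) :=
  QCoh.subsingleton_HH_of_iso (CurveTensor.commIso (Coh.structureModule X) L ≪≫ AmpleVan.twUnit.app L) 1
    (subsingleton_h1_twist k hdim QCoh.isQCoh_structureModule hL hc h1)

include k in
/-- Ample modules have positive degree on curves. -/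
theorem cover_of_ample (hdim : topologicalKrullDim X ≤ 1) (h1 : Subsingleton (Coh.HH X (Coh.structureModule X) 1))
    {L : X.Modules} (hL : CohB1.IsAmple L) : Cover L :=
  cover_of_nef k hdim h1 hL.1 fun J hJ hJ1 => by
    haveI := hJ
    exact (AmpleDev.deg_pos_on_curve k hL J ((AmpleDev.dim_subscheme k J).symm.trans hJ1)).le

end Groth.Agent.CurveReg
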