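import Groth.Agent.CurveReg.Mul
import Groth.Agent.MeroX.DivDim
import Groth.Agent.CurveEmbed.Lift
import Groth.Agent.QCoh.AnnIdeal
import Groth.Agent.TwistFlat.Converse
import Groth.Agent.AmpleDev.Basic
import Groth.Agent.AmpleVan.ThickPush
import Groth.Agent.AmpleX.Sect
import Groth.Agent.CurveBC.Coh
import Groth.Agent.GeomField.GlobalFunctions
import Groth.Agent.FDescent.MaxPoint
import Groth.Agent.PnCoh.PushNat
import Groth.Agent.H23.FinCondSch
import Groth.Agent.Lib.InvEnd
import Groth.Agent.InvX.GenLocusPull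

/-!
Invertible modules with sections on every integral closed subscheme, on schemes of dimension at most one
without first cohomology.
-/

set_option linter.style.haveILetI false
set_option linter.unusedSectionVars false
set_option backward.isDefEq.respectTransparency false
set_option backward.isDefEq.respectTransparency.types false

universe u

open CategoryTheory CategoryTheory.Limits AlgebraicGeometry TopologicalSpace Opposite
open MonoidalCategory
open Groth.Agent.PnCoh.Finite (mapLin deltaLin)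

noncomputable section

namespace Groth.Agent.CurveReg

open Groth.Agent Groth.Agent.InvX Groth.Agent.H23

variable {X : Scheme.{u}}

/-- The sections have no common zero. -/
def Cover (L : X.Modules) : Prop := ∀ x : X, ∃ z : Γ(L, ⊤), x ∈ TrivBasic.locus z

theorem Cover.of_iso {L M : X.Modules} (e : L ≅ M) (h : Cover L) : Cover M := fun x => by
  obtain ⟨z, hz⟩ := h x
  refine ⟨e.hom.app ⊤ z, TrivBasic.le_locus (U := TrivBasic.locus z) ?_ hz⟩
  rw [← AModX.app_res]
  exact IsFrame.map_iso e (TrivBasic.isFrame_res_of_le_locus le_rfl)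

theorem Cover.pullback {W : Scheme.{u}} (g : W ⟶ X) {L : X.Modules} (hL : PicF.IsInvertible L) (h : Cover L) :
    Cover ((Scheme.Modules.pullback g).obj L) := fun w => by
  obtain ⟨z, hz⟩ := h (g w)
  exact ⟨InvX.pullElt g z, (TrivBasic.locus_pullElt hL g z).ge hz⟩

/-- Finitely many of the sections suffice. -/
theorem Cover.exists_fin [CompactSpace X] {L : X.Modules} (h : Cover L) :
    ∃ (m : ℕ) (t : Fin m → Γ(L, ⊤)), ∀ x : X, ∃ i, x ∈ TrivBasic.locus (t i) := by
  classical
  choose a ha using h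
  obtain ⟨S, hS⟩ := isCompact_univ.elim_finite_subcover (fun x : X => (TrivBasic.locus (a x) : Set X))
    (fun x => (TrivBasic.locus (a x)).2) (fun x _ => Set.mem_iUnion.2 ⟨x, ha x⟩)
  refine ⟨S.card, fun i => a (S.equivFin.symm i), fun x => ?_⟩
  obtain ⟨y, hy, hx⟩ := Set.mem_iUnion₂.1 (hS (Set.mem_univ x))
  exact ⟨S.equivFin ⟨y, hy⟩, by simp only [Equiv.symm_apply_apply]; exact hx⟩

theorem app_one' {L : X.Modules} (s : Coh.structureModule X ⟶ L) (V : X.Opens) (r : Γ(X, V)) :
    s.app V (show Γ(Coh.structureModule X, V) from r) =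
      r • AModX.res L (le_top : V ≤ ⊤) (s.app ⊤ (1 : Γ(X, ⊤))) := by
  rw [← AModX.app_res, ← Scheme.Modules.Hom.app_smul]
  refine congrArg _ ?_
  show r = r * X.presheaf.map _ 1
  rw [map_one, mul_one]

theorem isQCoh_sum' {ι : Type} [Fintype ι] {G : X.Modules} (hG : Coh.IsQCoh G) :
    Coh.IsQCoh (⨁ fun _ : ι => G) :=
  (QCoh.isQCoh_iff_iso (biproduct.isoCoproduct (fun _ : ι => G) ≪≫
    Sigma.whiskerEquiv (g := fun _ : ULift.{u} ι => G) Equiv.ulift.symm (fun _ => Iso.refl _))).2
    (QCoh.isQCoh_colimit (Discrete.functor fun _ : ULift.{u} ι => G) fun _ => hG)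

theorem epi_mulAll' {G L : X.Modules} (hG : Coh.IsQCoh G) (hL : PicF.IsInvertible L) {m : ℕ}
    (t : Fin m → Γ(L, ⊤)) (hcov : ∀ x : X, ∃ i, x ∈ TrivBasic.locus (t i)) : Epi (mulAll t G) := by
  refine epi_of_local _ fun U n x hx => ?_
  obtain ⟨i, hi⟩ := hcov x
  obtain ⟨W, hW, hxW, hWU⟩ := exists_isAffineOpen_mem_and_subset (x := x) (U := U ⊓ TrivBasic.locus (t i)) ⟨hx, hi⟩
  have hWU' : W ≤ U := fun p hp => (hWU hp).1
  obtain ⟨g, hg⟩ := (TwistFlat.bijective_tmul_frame hG (ProjUPX.isQCoh_of_isInvertible hL) hW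
    (TrivBasic.isFrame_res_of_le_locus (fun p hp => (hWU hp).2 : W ≤ TrivBasic.locus (t i)))).2
      (AModX.res (CohB1.tensorMod G L) hWU' n)
  refine ⟨W, hWU', hxW, (biproduct.ι (fun _ : Fin m => G) i).app W g, ?_⟩
  rw [mulAll_ι]
  exact hg

theorem commIso_tmul {M N : X.Modules} {U : X.Opens} (a : Γ(M, U)) (b : Γ(N, U)) :
    (CurveTensor.commIso M N).hom.app U (InvX.tmul a b) = InvX.tmul b a := by
  refine (congr(($(KFlatLib.unitShP_naturality (β_ (DCoh.toP.obj M) (DCoh.toP.obj N)).hom)).app (op U)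
    (KFlatLib.tm (P := DCoh.toP.obj M) (Q := DCoh.toP.obj N) a b))).symm.trans ?_
  rfl

/-- `O ⊗ L ≅ L` is multiplication. -/
theorem structure_tmul {L : X.Modules} {U : X.Opens} (r : Γ(X, U)) (l : Γ(L, U)) :
    (CurveTensor.commIso (Coh.structureModule X) L ≪≫ AmpleVan.twUnit.app L).hom.app U
      (InvX.tmul (show Γ(Coh.structureModule X, U) from r) l) = r • l := by
  have hc := commIso_tmul (M := Coh.structureModule X) (N := L) (show Γ(Coh.structureModule X, U) from r) l
  rw [Iso.trans_hom, Scheme.Modules.Hom.comp_app, ConcreteCategory.comp_apply, hc]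
  change (AmpleVan.twUnit.hom.app L).app U (InvX.tmul l (show Γ(Coh.structureModule X, U) from r)) = r • l
  have h1 : (show Γ(Coh.structureModule X, U) from r) =
      r • (show Γ(Coh.structureModule X, U) from (1 : Γ(X, U))) := (mul_one r).symm
  refine (congrArg (fun w => (AmpleVan.twUnit.hom.app L).app U (InvX.tmul l w)) h1).trans ?_
  simp only
  rw [InvX.tmul_smul_right, Scheme.Modules.Hom.app_smul, ← AmpleVan.unit_inv_app]
  exact congrArg (r • ·) (congr(($(AmpleVan.twUnit.inv_hom_id_app L)).app U l))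

section Over

variable (k : Type u) [Field k] [X.Over (Spec (CommRingCat.of k))] [IsProper (X ↘ Spec (CommRingCat.of k))]
  (hdim : topologicalKrullDim X ≤ 1)

include k hdim in
theorem subsingleton_h1_twist {G L : X.Modules} (hG : Coh.IsQCoh G) (hL : PicF.IsInvertible L) (hc : Cover L)
    (h : Subsingleton (Coh.HH X G 1)) : Subsingleton (Coh.HH X (CohB1.tensorMod G L) 1) := by
  haveI : CompactSpace X := QuasiCompact.compactSpace_of_compactSpace (X ↘ Spec (CommRingCat.of k))
  obtain ⟨m, t, ht⟩ := hc.exists_fin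
  haveI := epi_mulAll' hG hL t ht
  exact subsingleton_h1_of_epi k hdim (isQCoh_sum' hG)
    (KFlatLib.isQCoh_tensor hG (ProjUPX.isQCoh_of_isInvertible hL)) (mulAll t G)
    (subsingleton_HH_sum _ k 1 fun _ => h)

include k hdim in
/-- A regular section generates at the generic points; with `H¹(O) = 0` the module is then generated. -/
theorem cover_of_mono (h1 : Subsingleton (Coh.HH X (Coh.structureModule X) 1)) {L : X.Modules}
    (hL : PicF.IsInvertible L) (s : Coh.structureModule X ⟶ L) [Mono s] : Cover L := by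
  haveI := CurveCohLib.isNoetherian_of_proper (k := k) (X := X)
  let σ : Γ(L, ⊤) := s.app ⊤ (1 : Γ(X, ⊤))
  let T : Set X := (TrivBasic.locus σ : Set X)ᶜ
  have hgen : ∀ x, closure ({x} : Set X) ∈ irreducibleComponents (X : Type u) → x ∈ TrivBasic.locus σ := by
    intro x hx
    obtain ⟨U, hxU, f, hf⟩ := exists_frame hL x
    obtain ⟨V, hV, hxV, hVU⟩ := exists_isAffineOpen_mem_and_subset (x := x) (U := U) hxU
    obtain ⟨a, ha⟩ := (hf.res hVU).exists_coord le_rfl (AModX.res L (le_top : V ≤ ⊤) σ)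
    rw [AModX.res_self] at ha
    have hnz : a ∈ nonZeroDivisors Γ(X, V) := mem_nonZeroDivisors_iff_right.2 fun b hb =>
      QCoh.app_injective s V ((app_one' s V b).trans (by
        rw [show AModX.res L (le_top : V ≤ ⊤) (s.app ⊤ (1 : Γ(X, ⊤))) = _ from ha, ← mul_smul, hb, zero_smul]
        exact (map_zero _).symm))
    have hmin := MeroX.mem_minimalPrimes_of_generic (⊥ : X.IdealSheafData) x (by simp)
      (fun z _ h => FDescent.maximal_of_closure_mem_irreducibleComponents hx h) ⟨V, hV⟩ hxV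
    rw [Scheme.IdealSheafData.ideal_bot, Pi.bot_apply, Ideal.map_bot] at hmin
    have hd := Ideal.disjoint_nonZeroDivisors_of_mem_minimalPrimes hmin
    have hu : IsUnit (X.presheaf.germ V x hxV a) := by
      by_contra h
      exact Set.disjoint_left.1 hd ((IsLocalRing.mem_maximalIdeal _).2 h)
        (MeroX.germ_mem_nonZeroDivisors hV hnz x hxV)
    exact ((TrivBasic.locus_eq_basicOpen (hf.res hVU) ha).ge ((X.mem_basicOpen _ x hxV).2 hu)).1
  have hcl : ∀ x ∈ T, IsClosed ({x} : Set X) := fun x hx =>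
    (isClosed_or_generic hdim x).resolve_right fun h => hx (hgen x h)
  have hsupp : CohB1.support (cokernel s) ⊆ T := fun x hx hxl => hx (subsingleton_of_forall_eq 0 fun z => by
    let F := DerSch.stalkFunctor X x
    obtain ⟨y, rfl⟩ := (ModuleCat.epi_iff_surjective (F.map (cokernel.π s))).1 inferInstance z
    obtain ⟨U, hxU, n, rfl⟩ := TopCat.Presheaf.exists_germ_eq L.presheaf y
    let W : X.Opens := U ⊓ TrivBasic.locus σ
    have hfr := TrivBasic.isFrame_res_of_le_locus (inf_le_right : W ≤ TrivBasic.locus σ)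
    obtain ⟨c, hc⟩ := hfr.exists_coord le_rfl (AModX.res L (inf_le_left : W ≤ U) n)
    rw [AModX.res_self] at hc
    have h2 : F.map s ((Coh.structureModule X).presheaf.germ W x ⟨hxU, hxl⟩ c) = L.presheaf.germ U x hxU n := by
      refine (TopCat.Presheaf.stalkFunctor_map_germ_apply W x ⟨hxU, hxl⟩
        ((Scheme.Modules.toPresheaf X).map s) _).trans ?_
      refine Eq.trans (congrArg (L.presheaf.germ W x ⟨hxU, hxl⟩) ?_) (InvX.germ_res' (inf_le_left : W ≤ U) ⟨hxU, hxl⟩ n)
      exact (app_one' s W c).trans hc.symm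
    rw [← h2, ← ConcreteCategory.comp_apply, ← F.map_comp, cokernel.condition, F.map_zero]
    rfl)
  have hS := CurveSlope.shortExact_cokernel_of_mono s
  have hsurj : Function.Surjective (mapLin k (cokernel.π s) 0) := fun y =>
    (CurveCohLib.ker_deltaLin k hS 0).le (LinearMap.mem_ker.2 (h1.elim _ 0) : y ∈ _)
  intro x
  classical
  by_cases hxl : x ∈ TrivBasic.locus σ
  · exact ⟨σ, hxl⟩
  obtain ⟨U, hxU, g, hg⟩ := exists_frame hL x
  let q := (DerSch.stalkFunctor X x).map (cokernel.π s)
  obtain ⟨t, ht⟩ : ∃ t : Γ(cokernel s, ⊤),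
      (cokernel s).presheaf.germ ⊤ x trivial t = q (L.presheaf.germ U x hxU g) := by
    by_cases hxS : x ∈ CohB1.support (cokernel s)
    · obtain ⟨t, ht, -⟩ := CurveCohLib.exists_section_single
        (QCoh.isCoh_cokernel QCoh.isQCoh_structureModule (CurveDeg.isCoh_of_isInvertible hL) s)
        (fun y hy => hcl y (hsupp hy)) hxS _
      exact ⟨t, ht⟩
    · exact ⟨0, (not_not.1 hxS : Subsingleton ((cokernel s).presheaf.stalk x)).elim _ _⟩
  obtain ⟨y, hy⟩ := hsurj ((Sheaf.H.equiv₀ (Coh.toAb (cokernel s)) isTerminalTop).symm t)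
  let z : Γ(L, ⊤) := Sheaf.H.equiv₀ (Coh.toAb L) isTerminalTop y
  have hz : (cokernel.π s).app ⊤ z = t := by
    refine Eq.trans ?_ ((congrArg (Sheaf.H.equiv₀ (Coh.toAb (cokernel s)) isTerminalTop) hy).trans
      ((Sheaf.H.equiv₀ (Coh.toAb (cokernel s)) isTerminalTop).apply_symm_apply t))
    exact Sheaf.H.equiv₀_naturality isTerminalTop ((QCoh.toAbFunctor X).map (cokernel.π s)) y
  let d : Γ(L, U) := AModX.res L (le_top : U ≤ ⊤) z - g
  have hd : q (L.presheaf.germ U x hxU d) = 0 := by
    refine (congrArg q (map_sub (L.presheaf.germ U x hxU).hom _ _)).trans ((map_sub q.hom _ _).trans (sub_eq_zero.2 ?_))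
    refine Eq.trans ?_ ht
    refine (congrArg q (InvX.germ_res' (le_top : U ≤ ⊤) hxU z)).trans ?_
    refine (TopCat.Presheaf.stalkFunctor_map_germ_apply ⊤ x trivial
      ((Scheme.Modules.toPresheaf X).map (cokernel.π s)) z).trans ?_
    exact congrArg ((cokernel s).presheaf.germ ⊤ x trivial) hz
  obtain ⟨m, hm⟩ := (ShortComplex.moduleCat_exact_iff _).1 (hS.map_of_exact (DerSch.stalkFunctor X x)).exact _ hd
  obtain ⟨V, hxV, w, rfl⟩ := TopCat.Presheaf.exists_germ_eq (Coh.structureModule X).presheaf m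
  obtain ⟨W, hxW, i, j, hW⟩ := L.presheaf.germ_eq x hxV hxU _ _
    ((TopCat.Presheaf.stalkFunctor_map_germ_apply V x hxV
      ((Scheme.Modules.toPresheaf X).map s) w).symm.trans hm)
  let b : Γ(X, W) := AModX.res (Coh.structureModule X) i.le w
  obtain ⟨a, ha⟩ := (hg.res j.le).exists_coord le_rfl (AModX.res L (le_top : W ≤ ⊤) σ)
  rw [AModX.res_self] at ha
  have hW' : s.app W b = AModX.res L j.le d := (AModX.app_res s i.le w).trans hW
  rw [app_one' s W b, show AModX.res L (le_top : W ≤ ⊤) (s.app ⊤ (1 : Γ(X, ⊤))) = _ from ha, ← mul_smul,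
    map_sub, AModX.res_res, eq_sub_iff_add_eq] at hW'
  have hzW : AModX.res L (le_top : W ≤ ⊤) z = (b * a + 1) • AModX.res L j.le g := by
    rw [← hW', add_smul, one_smul]
  refine ⟨z, ((TrivBasic.locus_eq_basicOpen (hg.res j.le) hzW).ge ((X.mem_basicOpen _ x hxW).2 ?_)).1⟩
  have hna : ¬ IsUnit (X.presheaf.germ W x hxW a) := fun h =>
    hxl ((TrivBasic.locus_eq_basicOpen (hg.res j.le) ha).ge ((X.mem_basicOpen _ x hxW).2 h)).1
  rw [map_add, map_mul, map_one, add_comm]
  by_contra hu
  refine (IsLocalRing.maximalIdeal.isMaximal (X.presheaf.stalk x)).ne_top ((Ideal.eq_top_iff_one _).2 ?_)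
  have h2 := Ideal.sub_mem _ ((IsLocalRing.mem_maximalIdeal _).2 hu)
    (Ideal.mul_mem_left _ (X.presheaf.germ W x hxW b) ((IsLocalRing.mem_maximalIdeal _).2 hna))
  rwa [add_sub_cancel_right] at h2

include k hdim in
/-- First cohomology of the structure sheaf vanishes on closed subschemes. -/
theorem subsingleton_h1_closed (h1 : Subsingleton (Coh.HH X (Coh.structureModule X) 1)) {Z : Scheme.{u}}
    (i : Z ⟶ X) [IsClosedImmersion i] : Subsingleton (Coh.HH Z (Coh.structureModule Z) 1) := by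
  let η := (Scheme.Modules.pullbackPushforwardAdjunction i).unit.app (Coh.structureModule X)
  have hP : Coh.IsQCoh ((Scheme.Modules.pullback i).obj (Coh.structureModule X)) :=
    QCoh.isQCoh_pullback i QCoh.isQCoh_structureModule
  haveI : Epi η := epi_of_local η fun U n x hx => by
    obtain ⟨V, hV, hxV, hVU⟩ := exists_isAffineOpen_mem_and_subset (x := x) (U := U) hx
    exact ⟨V, hVU, hxV, (QCoh.unit_app_closed i QCoh.isQCoh_structureModule hV).1 _⟩
  have h2 := subsingleton_h1_of_epi k hdim QCoh.isQCoh_structureModule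
    (QCoh.isQCoh_pushforward i hP) η h1
  obtain ⟨e⟩ := QCoh.HH_push_of_isAffineHom i hP 1
  exact QCoh.subsingleton_HH_of_iso (CurveBC.unitIso i) 1 (e.toEquiv.subsingleton_congr.2 h2)

/-- Global functions on an integral proper scheme over an algebraically closed field. -/
theorem finrank_h0_integral [IsAlgClosed k] [IsIntegral X] :
    Module.finrank k (Coh.HH X (Coh.structureModule X) 0) = 1 := by
  letI := GeomField.globalAlgebra k X
  rw [GeomField.finrank_HH_zero k X]
  haveI := GeomField.algebraMap_integral k X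
  letI : Field Γ(X, ⊤) := (GeomField.isField_globalFunctions k X).toField
  have hb : Function.Bijective (algebraMap k Γ(X, ⊤)) := IsAlgClosed.algebraMap_bijective_of_isIntegral
  rw [← (LinearEquiv.ofBijective (Algebra.linearMap k Γ(X, ⊤)) hb).finrank_eq]
  exact Module.finrank_self k

include k hdim in
theorem step [IsAlgClosed k] (h1 : Subsingleton (Coh.HH X (Coh.structureModule X) 1)) {L : X.Modules}
    (hL : PicF.IsInvertible L)
    (hC : ∀ {C : Scheme.{u}} (j : C ⟶ X), IsClosedImmersion j → IsIntegral C →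
      Cover ((Scheme.Modules.pullback j).obj L))
    (hIH : ∀ A : X.IdealSheafData, A ≠ ⊥ → Cover ((Scheme.Modules.pullback A.subschemeι).obj L)) :
    Cover L := by
  classical
  haveI := CurveCohLib.isNoetherian_of_proper (k := k) (X := X)
  intro x
  obtain ⟨ξ, hξ, hmax⟩ := FDescent.exists_maximal_of_mem_irreducibleComponents
    (irreducibleComponent_mem_irreducibleComponents x)
  let J := Scheme.IdealSheafData.vanishingIdeal (Closeds.closure ({ξ} : Set X))
  let C := J.subscheme
  let j : C ⟶ X := J.subschemeι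
  haveI : IsIntegral C := QCoh.isIntegral_closure_point ξ
  let O := Coh.structureModule X
  let η := (Scheme.Modules.pullbackPushforwardAdjunction j).unit.app O
  have hPO : Coh.IsQCoh ((Scheme.Modules.pullback j).obj O) := QCoh.isQCoh_pullback j QCoh.isQCoh_structureModule
  have hQO : Coh.IsQCoh ((Scheme.Modules.pullback j ⋙ Scheme.Modules.pushforward j).obj O) :=
    QCoh.isQCoh_pushforward j hPO
  let I := kernel η
  have hI : Coh.IsQCoh I := QCoh.isQCoh_kernel QCoh.isQCoh_structureModule hQO η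
  have hIc : Coh.IsCoh I := QCoh.isCoh_of_mono (kernel.ι η) QCoh.isCoh_structureModule' hI
  have hker : ∀ V : X.affineOpens, j.ker.ideal V = J.ideal V := fun V => by rw [Scheme.IdealSheafData.ker_subschemeι]
  have hkill : ∀ (V : X.affineOpens) (a : Γ(X, V.1)),
      η.app V.1 (show Γ(O, V.1) from a) = 0 ↔ a ∈ J.ideal V := fun V a => by
    rw [(QCoh.unit_app_closed j QCoh.isQCoh_structureModule V.2).2, hker]
    show a ∈ J.ideal V • (⊤ : Submodule Γ(X, V.1) Γ(X, V.1)) ↔ _
    rw [Ideal.smul_top_eq_map]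
    simp
  -- the annihilator of `I` is nonzero
  let A := QCoh.annIdeal hI hIc.2
  obtain ⟨V, hV, hξV, -⟩ := exists_isAffineOpen_mem_and_subset (x := ξ) (U := ⊤) trivial
  let p := (hV.primeIdealOf ⟨ξ, hξV⟩).asIdeal
  have hJp : J.ideal ⟨V, hV⟩ = p := Ideal.ext fun a => by
    rw [QCoh.mem_vanishing_closure_iff (V := ⟨V, hV⟩) ξ a]
    exact not_iff_comm.1 (QCoh.mem_basicOpen_iff_notMem hV hξV a).symm
  haveI : IsNoetherianRing Γ(X, V) := IsLocallyNoetherian.component_noetherian ⟨V, hV⟩
  have hpmin : p ∈ minimalPrimes Γ(X, V) := by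
    refine ⟨⟨(hV.primeIdealOf ⟨ξ, hξV⟩).isPrime, bot_le⟩, fun q hq hqp => ?_⟩
    let y := hV.fromSpec ⟨q, hq.1⟩
    have hy : y ⤳ ξ := by
      have h := ((PrimeSpectrum.le_iff_specializes ⟨q, hq.1⟩ (hV.primeIdealOf ⟨ξ, hξV⟩)).1 hqp).map hV.fromSpec.continuous
      rwa [hV.fromSpec_primeIdealOf ⟨ξ, hξV⟩] at h
    have : hV.fromSpec ⟨q, hq.1⟩ = hV.fromSpec (hV.primeIdealOf ⟨ξ, hξV⟩) :=
      (hmax y hy).trans (hV.fromSpec_primeIdealOf ⟨ξ, hξV⟩).symm
    exact (congrArg PrimeSpectrum.asIdeal (hV.fromSpec.isOpenEmbedding.injective this)).ge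
  have hass : p ∈ associatedPrimes Γ(X, V) Γ(X, V) := by
    refine Module.associatedPrimes.minimalPrimes_annihilator_subset_associatedPrimes _ _ ?_
    rwa [Module.annihilator_eq_bot.2 inferInstance]
  obtain ⟨hpr, x₀, hx₀⟩ := isAssociatedPrime_iff.1 hass
  have hA : A ≠ ⊥ := fun hA => by
    have hx0 : x₀ ∈ A.ideal ⟨V, hV⟩ := by
      show x₀ ∈ Module.annihilator Γ(X, V) Γ(I, V)
      rw [Module.mem_annihilator]
      intro n
      refine QCoh.app_injective (kernel.ι η) V ?_
      rw [map_zero, Scheme.Modules.Hom.app_smul]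
      have hn : (show Γ(X, V) from (kernel.ι η).app V n) ∈ p := by
        rw [← hJp, ← hkill ⟨V, hV⟩]
        exact congr(($(kernel.condition η)).app V n)
      have h0 : (show Γ(X, V) from (kernel.ι η).app V n) • x₀ = (0 : Γ(X, V)) := by
        rw [hx₀] at hn
        exact (Submodule.mem_bot Γ(X, V)).1 (Submodule.mem_colon_singleton.1 hn)
      exact (mul_comm _ _).trans h0
    have hx0' : x₀ = 0 := by
      rw [hA, Scheme.IdealSheafData.ideal_bot] at hx0
      exact (Submodule.mem_bot Γ(X, V)).1 hx0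
    refine hpr.ne_top ((Ideal.eq_top_iff_one p).2 ?_)
    rw [hx₀, Submodule.mem_colon_singleton, hx0', smul_zero]
    exact Submodule.zero_mem _
  let i := A.subschemeι
  let W := A.subscheme
  -- `H¹(I) = 0`
  haveI hη : Epi η := epi_of_local η fun U n y hy => by
    obtain ⟨V', hV', hyV', hV'U⟩ := exists_isAffineOpen_mem_and_subset (x := y) (U := U) hy
    exact ⟨V', hV'U, hyV', (QCoh.unit_app_closed j QCoh.isQCoh_structureModule hV').1 _⟩
  let S := ShortComplex.mk (kernel.ι η) η (kernel.condition η)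
  have hS : S.ShortExact :=
    ShortComplex.ShortExact.mk' (ShortComplex.exact_of_f_is_kernel _ (kernelIsKernel η)) inferInstance hη
  letI : C.Over (Spec (CommRingCat.of k)) := ⟨j ≫ (X ↘ Spec (CommRingCat.of k))⟩
  haveI : IsProper (C ↘ Spec (CommRingCat.of k)) := inferInstanceAs (IsProper (j ≫ (X ↘ Spec (CommRingCat.of k))))
  have hI1 : Subsingleton (Coh.HH X I 1) := by
    let Q := (Scheme.Modules.pullback j ⋙ Scheme.Modules.pushforward j).obj O
    have hQ : Module.finrank k (Coh.HH X Q 0) = 1 := by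
      obtain ⟨e⟩ := PnCoh.exists_linearEquiv_push k j rfl hPO 0
      exact e.finrank_eq.symm.trans
        ((CurveCohLib.hhEquiv (k := k) (CurveBC.unitIso j) 0).finrank_eq.trans (finrank_h0_integral k))
    let v : Coh.HH X Q 0 := mapLin k η 0 ((Sheaf.H.equiv₀ (Coh.toAb O) isTerminalTop).symm (1 : Γ(X, ⊤)))
    have hv : v ≠ 0 := fun hv => hpr.ne_top ((Ideal.eq_top_iff_one p).2 (by
      rw [← hJp, ← hkill ⟨V, hV⟩]
      have h1 : η.app ⊤ (show Γ(O, ⊤) from (1 : Γ(X, ⊤))) = 0 := by
        refine Eq.trans ?_ (((congrArg (Sheaf.H.equiv₀ (Coh.toAb Q) isTerminalTop) hv)).trans (map_zero _))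
        refine Eq.trans ?_ (Sheaf.H.equiv₀_naturality isTerminalTop ((QCoh.toAbFunctor X).map η) _)
        exact congrArg (η.app ⊤) (AddEquiv.apply_symm_apply _ _).symm
      have h2 := congrArg (AModX.res Q (le_top : V ≤ ⊤)) h1
      rw [← AModX.app_res, map_zero] at h2
      refine Eq.trans (congrArg (η.app V) ?_) h2
      exact (map_one (X.presheaf.map (homOfLE (le_top : V ≤ ⊤)).op).hom).symm))
    have hsurj : Function.Surjective (mapLin k η 0) := fun y => by
      obtain ⟨c, hc⟩ := exists_smul_eq_of_finrank_eq_one hQ hv y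
      exact ⟨c • _, (map_smul _ _ _).trans hc⟩
    refine subsingleton_of_forall_eq 0 fun w => ?_
    obtain ⟨z, rfl⟩ := (CurveCohLib.ker_mapLin_f_succ k hS 0).le (LinearMap.mem_ker.2 (h1.elim _ 0) : w ∈ _)
    exact LinearMap.mem_ker.1 ((CurveCohLib.ker_deltaLin k hS 0).ge (hsurj z) : z ∈ _)
  -- `H¹(I ⊗ L) = 0`
  have hIL : Subsingleton (Coh.HH X (CohB1.tensorMod I L) 1) := by
    obtain ⟨e⟩ := AmpleVan.exists_eq_push i hI fun U a ha s => by
      have ha' : a ∈ A.ideal U := by rwa [Scheme.IdealSheafData.ker_subschemeι] at ha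
      exact Module.mem_annihilator.1 ha' s
    let G := (Scheme.Modules.pullback i).obj I
    have hG : Coh.IsQCoh G := QCoh.isQCoh_pullback i hI
    letI : W.Over (Spec (CommRingCat.of k)) := ⟨i ≫ (X ↘ Spec (CommRingCat.of k))⟩
    haveI : IsProper (W ↘ Spec (CommRingCat.of k)) := inferInstanceAs (IsProper (i ≫ (X ↘ Spec (CommRingCat.of k))))
    have hLW := PicClLib.isInvertible_pullback i hL
    obtain ⟨a⟩ := QCoh.HH_push_of_isAffineHom i hG 1
    have hG1 : Subsingleton (Coh.HH W G 1) :=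
      a.toEquiv.subsingleton_congr.2 (QCoh.subsingleton_HH_of_iso e 1 hI1)
    have hGL := subsingleton_h1_twist k (le_trans i.isClosedEmbedding.isInducing.topologicalKrullDim_le hdim)
      hG hLW (hIH A hA) hG1
    obtain ⟨e'⟩ := AmpleDev.push_tensor_iso i hL G
    obtain ⟨b⟩ := QCoh.HH_push_of_isAffineHom i (KFlatLib.isQCoh_tensor hG (ProjUPX.isQCoh_of_isInvertible hLW)) 1
    exact QCoh.subsingleton_HH_of_iso ((AmpleVan.tw L).mapIso e).symm 1
      (QCoh.subsingleton_HH_of_iso e'.symm 1 (b.toEquiv.subsingleton_congr.1 hGL))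
  -- the kernel of the restriction of `L`
  let ηL := (Scheme.Modules.pullbackPushforwardAdjunction j).unit.app L
  have hPL : Coh.IsQCoh ((Scheme.Modules.pullback j).obj L) := QCoh.isQCoh_pullback j (ProjUPX.isQCoh_of_isInvertible hL)
  have hQL : Coh.IsQCoh ((Scheme.Modules.pullback j ⋙ Scheme.Modules.pushforward j).obj L) :=
    QCoh.isQCoh_pushforward j hPL
  let eU : CohB1.tensorMod O L ≅ L := CurveTensor.commIso O L ≪≫ AmpleVan.twUnit.app L
  have heU : ∀ (U : X.Opens) (r : Γ(X, U)) (l : Γ(L, U)),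
      eU.hom.app U (InvX.tmul (show Γ(O, U) from r) l) = r • l := fun U r l => structure_tmul r l
  let μ : CohB1.tensorMod I L ⟶ L := (AmpleVan.tw L).map (kernel.ι η) ≫ eU.hom
  have hμ : μ ≫ ηL = 0 := AmpleVan.hom_ext_tmul fun U n l => by
    refine (congrArg (ηL.app U) ((congrArg (eU.hom.app U) (AmpleVan.map_tmul_left (kernel.ι η) n l)).trans
      (heU U _ l))).trans ?_
    rw [Scheme.Modules.Hom.app_smul]
    refine AModX.eq_of_locally _ _ fun y hy => ?_
    obtain ⟨V', hV', hyV', hV'U⟩ := exists_isAffineOpen_mem_and_subset (x := y) (U := U) hy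
    refine ⟨V', hV'U, hyV', ?_⟩
    refine Eq.trans ?_ (map_zero _).symm
    rw [AModX.res_smul, ← AModX.app_res, ← Scheme.Modules.Hom.app_smul]
    refine ((QCoh.unit_app_closed j (ProjUPX.isQCoh_of_isInvertible hL) hV').2 _).2
      (Submodule.smul_mem_smul ?_ Submodule.mem_top)
    rw [hker, ← hkill ⟨V', hV'⟩]
    refine Eq.trans ?_ (congr(($(kernel.condition η)).app V' (AModX.res I hV'U n)))
    exact congrArg (η.app V') (AModX.app_res (kernel.ι η) hV'U n).symm
  let K := kernel ηL
  haveI : Epi (kernel.lift ηL μ hμ) := epi_of_local _ fun U n y hy => by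
    obtain ⟨U', hyU', f, hf⟩ := exists_frame hL y
    obtain ⟨V', hV', hyV', hV'U⟩ := exists_isAffineOpen_mem_and_subset (x := y) (U := U ⊓ U') ⟨hy, hyU'⟩
    have hVU : V' ≤ U := hV'U.trans inf_le_left
    have hfr := hf.res (hV'U.trans inf_le_right : V' ≤ U')
    let l : Γ(L, V') := (kernel.ι ηL).app V' (AModX.res K hVU n)
    have hl : ηL.app V' l = 0 := congr(($(kernel.condition ηL)).app V' (AModX.res K hVU n))
    obtain ⟨c, hc⟩ := hfr.exists_coord le_rfl l
    rw [AModX.res_self] at hc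
    have hcJ : c ∈ J.ideal ⟨V', hV'⟩ := by
      have h3 := ((QCoh.unit_app_closed j (ProjUPX.isQCoh_of_isInvertible hL) hV').2 _).1 hl
      rw [hker] at h3
      have h4 : ∀ w ∈ J.ideal ⟨V', hV'⟩ • (⊤ : Submodule Γ(X, V') Γ(L, V')), ∃ d ∈ J.ideal ⟨V', hV'⟩,
          w = d • AModX.res L (hV'U.trans inf_le_right : V' ≤ U') f := fun w hw => by
        refine Submodule.smul_induction_on hw (fun a ha v _ => ?_) fun v v' hv hv' => ?_
        · obtain ⟨d, hd⟩ := hfr.exists_coord le_rfl v
          rw [AModX.res_self] at hd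
          exact ⟨a * d, Ideal.mul_mem_right _ _ ha, by rw [hd, mul_smul]⟩
        · obtain ⟨d, hd, rfl⟩ := hv
          obtain ⟨d', hd', rfl⟩ := hv'
          exact ⟨d + d', add_mem hd hd', (add_smul _ _ _).symm⟩
      obtain ⟨d, hd, hd'⟩ := h4 l h3
      rwa [hfr.coord_unique le_rfl (r := c) (r' := d) (by rw [AModX.res_self, ← hc, hd'])]
    obtain ⟨a, ha⟩ := QCoh.exists_app_f_eq hS V' (show Γ(O, V') from c) ((hkill ⟨V', hV'⟩ c).2 hcJ)
    refine ⟨V', hVU, hyV', InvX.tmul a (AModX.res L (hV'U.trans inf_le_right : V' ≤ U') f), ?_⟩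
    refine QCoh.app_injective (kernel.ι ηL) _ ?_
    show (kernel.lift ηL μ hμ ≫ kernel.ι ηL).app V' _ = l
    rw [kernel.lift_ι]
    refine (congrArg (eU.hom.app V') ((AmpleVan.map_tmul_left (kernel.ι η) a _).trans
      (congrArg (fun r => InvX.tmul r _) ha))).trans ?_
    exact (heU V' c _).trans hc.symm
  have hK1 : Subsingleton (Coh.HH X K 1) :=
    subsingleton_h1_of_epi k hdim (KFlatLib.isQCoh_tensor hI (ProjUPX.isQCoh_of_isInvertible hL))
      (QCoh.isQCoh_kernel (ProjUPX.isQCoh_of_isInvertible hL) hQL ηL) (kernel.lift ηL μ hμ) hIL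
  haveI hηL : Epi ηL := epi_of_local ηL fun U n y hy => by
    obtain ⟨V', hV', hyV', hV'U⟩ := exists_isAffineOpen_mem_and_subset (x := y) (U := U) hy
    exact ⟨V', hV'U, hyV', (QCoh.unit_app_closed j (ProjUPX.isQCoh_of_isInvertible hL) hV').1 _⟩
  have hSL : (ShortComplex.mk (kernel.ι ηL) ηL (kernel.condition ηL)).ShortExact :=
    ShortComplex.ShortExact.mk' (ShortComplex.exact_of_f_is_kernel _ (kernelIsKernel ηL)) inferInstance hηL
  obtain ⟨c, hc⟩ : ∃ c : C, j c = x := by
    have h : x ∈ Set.range j := by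
      rw [show Set.range j = closure {ξ} from H23.RedSub.range_vanishingIdeal _, ← hξ]
      exact mem_irreducibleComponent
    exact h
  obtain ⟨t, ht⟩ := hC j inferInstance inferInstance c
  let Q := (Scheme.Modules.pullback j ⋙ Scheme.Modules.pushforward j).obj L
  obtain ⟨y, hy⟩ := (CurveCohLib.ker_deltaLin k hSL 0).le (LinearMap.mem_ker.2 (hK1.elim _ 0) :
    (Sheaf.H.equiv₀ (Coh.toAb Q) isTerminalTop).symm t ∈ _)
  refine ⟨Sheaf.H.equiv₀ (Coh.toAb L) isTerminalTop y, ?_⟩
  have hz : InvX.pullElt j (show Γ(L, ⊤) from Sheaf.H.equiv₀ (Coh.toAb L) isTerminalTop y) = t := by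
    refine Eq.trans ?_ ((congrArg (Sheaf.H.equiv₀ (Coh.toAb Q) isTerminalTop) hy).trans
      ((Sheaf.H.equiv₀ (Coh.toAb Q) isTerminalTop).apply_symm_apply t))
    exact Sheaf.H.equiv₀_naturality isTerminalTop ((QCoh.toAbFunctor X).map ηL) y
  have h := (TrivBasic.locus_pullElt hL j (show Γ(L, ⊤) from Sheaf.H.equiv₀ (Coh.toAb L) isTerminalTop y)).le (hz.symm ▸ ht)
  exact hc ▸ h

include k hdim in
/-- Over an algebraically closed field, sections on the integral closed subschemes give sections. -/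
theorem cover_of_integral [IsAlgClosed k] (h1 : Subsingleton (Coh.HH X (Coh.structureModule X) 1)) {L : X.Modules}
    (hL : PicF.IsInvertible L)
    (hC : ∀ {C : Scheme.{u}} (j : C ⟶ X), IsClosedImmersion j → IsIntegral C →
      Cover ((Scheme.Modules.pullback j).obj L)) : Cover L := by
  haveI := CurveCohLib.isNoetherian_of_proper (k := k) (X := X)
  haveI := H23.FinCondSch.wellFoundedGT (X := X)
  have key : ∀ J : X.IdealSheafData, Cover ((Scheme.Modules.pullback J.subschemeι).obj L) := fun J => by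
    induction J using WellFoundedGT.induction with
    | ind J ih =>
      let Z := J.subscheme
      let ι := J.subschemeι
      letI : Z.Over (Spec (CommRingCat.of k)) := ⟨ι ≫ (X ↘ Spec (CommRingCat.of k))⟩
      haveI : IsProper (Z ↘ Spec (CommRingCat.of k)) :=
        inferInstanceAs (IsProper (ι ≫ (X ↘ Spec (CommRingCat.of k))))
      refine step k (le_trans ι.isClosedEmbedding.isInducing.topologicalKrullDim_le hdim)
        (subsingleton_h1_closed k hdim h1 ι) (PicClLib.isInvertible_pullback ι hL)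
        (fun {C} j hj hC' => ((hC (j ≫ ι) inferInstance hC').of_iso
          ((Scheme.Modules.pullbackComp j ι).app L).symm)) fun A hA => ?_
      let g := A.subschemeι ≫ ι
      have hle : J ≤ g.ker := (Scheme.IdealSheafData.ker_subschemeι J).ge.trans (Scheme.Hom.le_ker_comp _ _)
      have hne : J ≠ g.ker := fun e => hA (by
        let l := IsClosedImmersion.lift g ι (by rw [Scheme.IdealSheafData.ker_subschemeι, ← e])
        have hl : l ≫ A.subschemeι = 𝟙 Z := by
          rw [← cancel_mono ι, Category.assoc, Category.id_comp]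
          exact IsClosedImmersion.lift_fac _ _ _
        haveI : IsIso A.subschemeι := ⟨l, by rw [← cancel_mono A.subschemeι, Category.assoc, hl, Category.comp_id, Category.id_comp], hl⟩
        rw [← Scheme.IdealSheafData.ker_subschemeι A]
        exact Scheme.Hom.ker_eq_bot_of_isIso _)
      have h2 := ih g.ker (lt_of_le_of_ne hle hne)
      let l := IsClosedImmersion.lift g.ker.subschemeι g (Scheme.IdealSheafData.ker_subschemeι _).le
      exact ((h2.pullback l (PicClLib.isInvertible_pullback _ hL)).of_iso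
        ((Scheme.Modules.pullbackComp l g.ker.subschemeι).app L ≪≫
          (Scheme.Modules.pullbackCongr (IsClosedImmersion.lift_fac _ _ _)).app L ≪≫
          ((Scheme.Modules.pullbackComp A.subschemeι ι).app L).symm))
  intro x
  haveI : IsIso (⊥ : X.IdealSheafData).subschemeι := inferInstance
  exact ((key ⊥).pullback (inv (⊥ : X.IdealSheafData).subschemeι) (PicClLib.isInvertible_pullback _ hL)).of_iso
    ((Scheme.Modules.pullbackComp _ _).app L ≪≫ (Scheme.Modules.pullbackCongr (IsIso.inv_hom_id _)).app L ≪≫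
      (Scheme.Modules.pullbackId X).app L) x

end Over

end Groth.Agent.CurveReg
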