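import Groth.Agent.Lib.CurveVanish
import Groth.Agent.CurveCohLib.Proper
import Mathlib.AlgebraicGeometry.Limits

/-! Quasi-coherent cohomology of a one-dimensional Noetherian separated scheme vanishes from degree two. -/

set_option linter.style.haveILetI false
set_option backward.isDefEq.respectTransparency false
set_option backward.isDefEq.respectTransparency.types false

universe u

open CategoryTheory CategoryTheory.Limits AlgebraicGeometry TopologicalSpace Opposite

noncomputable section

namespace Groth.Agent.CurveReg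

variable {X : Scheme.{u}}

/-- In dimension at most one a point is closed or generic in a component. -/
theorem isClosed_or_generic (hdim : topologicalKrullDim X ≤ 1) (x : X) :
    IsClosed ({x} : Set X) ∨ closure ({x} : Set X) ∈ irreducibleComponents (X : Type u) := by
  by_contra! h
  obtain ⟨hcl, hgen⟩ := h
  obtain ⟨y, hy, hyx⟩ : ∃ y ∈ closure ({x} : Set X), y ≠ x := by
    by_contra! hcon
    exact hcl (closure_subset_iff_isClosed.1 fun y hy => hcon y hy)
  let Z := irreducibleComponent x
  have hZ : Z ∈ irreducibleComponents (X : Type u) := irreducibleComponent_mem_irreducibleComponents x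
  let cy : IrreducibleCloseds X := ⟨closure {y}, isIrreducible_singleton.closure, isClosed_closure⟩
  let cx : IrreducibleCloseds X := ⟨closure {x}, isIrreducible_singleton.closure, isClosed_closure⟩
  let cz : IrreducibleCloseds X := ⟨Z, hZ.1, isClosed_of_mem_irreducibleComponents Z hZ⟩
  have h1 : cy < cx := lt_of_le_of_ne (isClosed_closure.closure_subset_iff.2 (Set.singleton_subset_iff.2 hy))
    fun e => hyx ((inseparable_iff_closure_eq.2 (congrArg SetLike.coe e)).eq)
  have h2 : cx < cz := lt_of_le_of_ne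
    ((isClosed_of_mem_irreducibleComponents Z hZ).closure_subset_iff.2
      (Set.singleton_subset_iff.2 mem_irreducibleComponent))
    fun e => hgen (by rw [show closure ({x} : Set X) = Z from congrArg SetLike.coe e]; exact hZ)
  have := Order.LTSeries.length_le_krullDim (((RelSeries.singleton _ cy).snoc cx h1).snoc cz (by simpa using h2))
  have h3 : (2 : WithBot ℕ∞) ≤ 1 := le_trans (show (2 : WithBot ℕ∞) ≤ Order.krullDim (IrreducibleCloseds X) by simpa using this) hdim
  norm_num at h3

/-- An affine open with finite complement, made of closed points. -/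
theorem exists_affine_finite_compl [IsNoetherian X] [X.IsSeparated] (hdim : topologicalKrullDim X ≤ 1) :
    ∃ U : X.Opens, IsAffineOpen U ∧ ((U : Set X)ᶜ).Finite ∧ ∀ x ∉ U, IsClosed ({x} : Set X) := by
  classical
  let S := irreducibleComponents (X : Type u)
  haveI : Finite S := NoetherianSpace.finite_irreducibleComponents.to_subtype
  let W : S → X.Opens := fun Z => ⟨(⋃ Y ∈ S \ {Z.1}, Y)ᶜ,
    ((NoetherianSpace.finite_irreducibleComponents.sdiff).isClosed_biUnion fun Y hY =>
      isClosed_of_mem_irreducibleComponents Y hY.1).isOpen_compl⟩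
  have hgen : ∀ Z : S, ∃ η ∈ W Z, closure ({η} : Set X) = Z.1 := fun Z => by
    obtain ⟨η, hη⟩ := QuasiSober.sober Z.2.1 (isClosed_of_mem_irreducibleComponents Z.1 Z.2)
    refine ⟨η, fun h => ?_, hη.def⟩
    obtain ⟨Y, ⟨hY, hne⟩, hηY⟩ := Set.mem_iUnion₂.1 h
    have hle : Z.1 ⊆ Y := hη.def ▸ (isClosed_of_mem_irreducibleComponents Y hY).closure_subset_iff.2
      (Set.singleton_subset_iff.2 hηY)
    exact hne (Set.mem_singleton_iff.2 ((Z.2.eq_of_ge hY.1 hle).symm ▸ rfl))
  choose η hηW hη using hgen
  choose V hV hηV hVW using fun Z : S => exists_isAffineOpen_mem_and_subset (hηW Z)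
  have hdisj : Pairwise (Function.onFun Disjoint V) := fun Z Z' hne => by
    rw [Function.onFun, ← Opens.coe_disjoint, Set.disjoint_left]
    intro x hx hx'
    obtain ⟨Y, hY, hxY⟩ : ∃ Y ∈ S, x ∈ Y :=
      ⟨_, irreducibleComponent_mem_irreducibleComponents x, mem_irreducibleComponent⟩
    by_cases h : Y = Z.1
    · exact hVW Z' hx' (Set.mem_iUnion₂.2 ⟨Y, ⟨hY, fun e => hne (Subtype.ext (h.symm.trans (Set.mem_singleton_iff.1 e)))⟩, hxY⟩)
    · exact hVW Z hx (Set.mem_iUnion₂.2 ⟨Y, ⟨hY, h⟩, hxY⟩)
  have hcl : ∀ x ∉ ⨆ Z, V Z, IsClosed ({x} : Set X) := fun x hx => by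
    refine (isClosed_or_generic hdim x).resolve_right fun h => hx (Opens.mem_iSup.2 ⟨⟨_, h⟩, ?_⟩)
    have e : η ⟨_, h⟩ = x := (inseparable_iff_closure_eq.2 (hη ⟨_, h⟩)).eq
    exact (congrArg (· ∈ V ⟨closure {x}, h⟩) e).mp (hηV ⟨_, h⟩)
  exact ⟨⨆ Z, V Z, IsAffineOpen.iSup_of_disjoint hV hdisj,
    CurveCohLib.finite_of_closedPoints (⨆ Z, V Z).2.isClosed_compl hcl, hcl⟩

theorem subsingleton_HH_ge_two [IsNoetherian X] [X.IsSeparated] (hdim : topologicalKrullDim X ≤ 1)
    {F : X.Modules} (hF : Coh.IsQCoh F) (n : ℕ) : Subsingleton (Coh.HH X F (n + 2)) := by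
  obtain ⟨U, hU, hfin, hcl⟩ := exists_affine_finite_compl hdim
  exact CurveVanish.subsingleton_HH_ge_two U hU hfin hcl hF n

end Groth.Agent.CurveReg
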