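import Groth.Agent.CurveReg.Embed
import Groth.Agent.AmpleX.Pow
import Groth.Agent.CurveCohLib.Pencil
import Groth.Agent.QCoh.OpenSub

/-! Section rings of globally generated modules with vanishing first cohomology. -/

set_option linter.style.haveILetI false
set_option linter.unusedSectionVars false
set_option backward.isDefEq.respectTransparency false
set_option backward.isDefEq.respectTransparency.types false

universe u

open CategoryTheory CategoryTheory.Limits AlgebraicGeometry TopologicalSpace Opposite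

noncomputable section

namespace Groth.Agent.CurveReg

open Groth.Agent Groth.Agent.InvX Groth.Agent.H23

variable {X : Scheme.{u}}

theorem tmul_add_right' {M N : X.Modules} {U : X.Opens} (a : Γ(M, U)) (b b' : Γ(N, U)) :
    InvX.tmul a (b + b') = InvX.tmul a b + InvX.tmul a b' :=
  (congrArg _ (KFlatLib.tm_add_right a b b')).trans (map_add _ _ _)

/-- The sums of tensors of global sections. -/
def tens (M N : X.Modules) : AddSubgroup Γ(CohB1.tensorMod M N, ⊤) :=
  AddSubgroup.closure (Set.range fun p : Γ(M, ⊤) × Γ(N, ⊤) => InvX.tmul p.1 p.2)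

theorem tmul_mem_tens {M N : X.Modules} (a : Γ(M, ⊤)) (b : Γ(N, ⊤)) : InvX.tmul a b ∈ tens M N :=
  AddSubgroup.subset_closure ⟨(a, b), rfl⟩

theorem mem_tens_unit {M : X.Modules} (u : Γ(CohB1.tensorMod M (Coh.structureModule X), ⊤)) :
    u ∈ tens M (Coh.structureModule X) := by
  have h : (AmpleVan.twUnit.inv.app M).app ⊤ ((AmpleVan.twUnit.hom.app M).app ⊤ u) = u :=
    congr(($(AmpleVan.twUnit.hom_inv_id_app M)).app ⊤ u)
  rw [← h, AmpleVan.unit_inv_app]
  exact tmul_mem_tens _ _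

variable (k : Type u) [Field k] [X.Over (Spec (CommRingCat.of k))] [IsProper (X ↘ Spec (CommRingCat.of k))]
  (hdim : topologicalKrullDim X ≤ 1) {A : X.Modules} (hA : PicF.IsInvertible A)
  {m : ℕ} (t : Fin m → Γ(A, ⊤)) (hcov : ∀ x : X, ∃ i, x ∈ TrivBasic.locus (t i))

include k hdim hA hcov in
/-- Castelnuovo's lemma, with the first factor given up to isomorphism. -/
theorem exists_sum_iso {G N : X.Modules} (hG : PicF.IsInvertible G) (h : Subsingleton (Coh.HH X G 1))
    (e : N ≅ CohB1.tensorMod G A) (u : Γ(CohB1.tensorMod N A, ⊤)) :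
    ∃ a : Fin m → Γ(N, ⊤), u = ∑ i, InvX.tmul (a i) (t i) := by
  obtain ⟨a, ha⟩ := exists_sum_tmul t k hdim hG hA hcov h (((AmpleVan.tw A).map e.hom).app ⊤ u)
  refine ⟨fun i => e.inv.app ⊤ (a i), ?_⟩
  have h1 : ((AmpleVan.tw A).map e.inv).app ⊤ (((AmpleVan.tw A).map e.hom).app ⊤ u) = u :=
    congr(($(((AmpleVan.tw A).mapIso e).hom_inv_id)).app ⊤ u)
  rw [← h1, ha, map_sum]
  exact Finset.sum_congr rfl fun i _ => AmpleVan.map_tmul_left e.inv _ _

include k hdim hA hcov in
theorem h1_pow {G : X.Modules} (hG : PicF.IsInvertible G) (h : Subsingleton (Coh.HH X G 1)) :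
    ∀ r, Subsingleton (Coh.HH X (CohB1.tensorMod G (CohB1.tensorPow A r)) 1)
  | 0 => QCoh.subsingleton_HH_of_iso (AmpleVan.twUnit.app G).symm 1 h
  | r + 1 => QCoh.subsingleton_HH_of_iso (AmpleVan.assocT G (CohB1.tensorPow A r) A) 1
      (subsingleton_h1_tensor t k hdim (isInvertible_tensorMod hG (isInvertible_tensorPow hA r)) hA hcov
        (h1_pow hG h r))

include k hdim hA hcov in
theorem h1_tensorPow {j : ℕ} (h : Subsingleton (Coh.HH X (CohB1.tensorPow A j) 1)) :
    ∀ i, j ≤ i → Subsingleton (Coh.HH X (CohB1.tensorPow A i) 1) := fun i hi => by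
  induction i, hi using Nat.le_induction with
  | base => exact h
  | succ i _ ih => exact subsingleton_h1_tensor t k hdim (isInvertible_tensorPow hA i) hA hcov ih

include k hdim hA hcov in
/-- Sections of `M ⊗ A^r` are sums of tensors, for `M = G ⊗ A` with `H¹(G) = 0`. -/
theorem mem_tens_pow {G M : X.Modules} (hG : PicF.IsInvertible G) (h : Subsingleton (Coh.HH X G 1))
    (e : M ≅ CohB1.tensorMod G A) :
    ∀ r (u : Γ(CohB1.tensorMod M (CohB1.tensorPow A r), ⊤)), u ∈ tens M (CohB1.tensorPow A r)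
  | 0, u => mem_tens_unit u
  | r + 1, u => by
    have hM : PicF.IsInvertible M := H23.PicMul.isInvertible_of_iso e.symm (isInvertible_tensorMod hG hA)
    have hM1 : Subsingleton (Coh.HH X M 1) :=
      QCoh.subsingleton_HH_of_iso e.symm 1 (subsingleton_h1_tensor t k hdim hG hA hcov h)
    obtain ⟨G', hG', h', ⟨e'⟩⟩ : ∃ G' : X.Modules, PicF.IsInvertible G' ∧ Subsingleton (Coh.HH X G' 1) ∧
        Nonempty (CohB1.tensorMod M (CohB1.tensorPow A r) ≅ CohB1.tensorMod G' A) := by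
      cases r with
      | zero => exact ⟨G, hG, h, ⟨AmpleVan.twUnit.app M ≪≫ e⟩⟩
      | succ r => exact ⟨_, isInvertible_tensorMod hM (isInvertible_tensorPow hA r),
          h1_pow k hdim hA t hcov hM hM1 r, ⟨(AmpleVan.assocT M (CohB1.tensorPow A r) A).symm⟩⟩
    let α := AmpleVan.assocT M (CohB1.tensorPow A r) A
    obtain ⟨a, ha⟩ := exists_sum_iso k hdim hA t hcov hG' h' e' (α.inv.app ⊤ u)
    have hu : u = ∑ i, α.hom.app ⊤ (InvX.tmul (a i) (t i)) := by
      rw [← map_sum]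
      refine Eq.trans ?_ (congrArg (α.hom.app ⊤) ha)
      exact (congr(($(α.inv_hom_id)).app ⊤ u)).symm
    rw [hu]
    refine AddSubgroup.sum_mem _ fun i _ => ?_
    have hi := mem_tens_pow hG h e r (a i)
    generalize a i = w at hi ⊢
    induction hi using AddSubgroup.closure_induction with
    | mem y hy =>
      obtain ⟨⟨b, c⟩, rfl⟩ := hy
      rw [AmpleVan.assoc_tmul]
      exact tmul_mem_tens b (InvX.tmul c (t i))
    | zero => rw [AmpleVan.tmul_zero_left, map_zero]; exact zero_mem _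
    | add a b _ _ ha hb => rw [AmpleVan.tmul_add_left, map_add]; exact add_mem ha hb
    | neg a _ ha =>
      have hneg : α.hom.app ⊤ (InvX.tmul (-a) (t i)) = -α.hom.app ⊤ (InvX.tmul a (t i)) :=
        eq_neg_of_add_eq_zero_left (by
          rw [← map_add, ← AmpleVan.tmul_add_left, neg_add_cancel, AmpleVan.tmul_zero_left, map_zero])
      rw [hneg]; exact neg_mem ha

include k in
/-- A basis of the sections spans over the constants. -/
theorem exists_span {M : X.Modules} (hM : Coh.IsCoh M) {N : ℕ} (hN : Module.finrank k (Coh.HH X M 0) = N + 1) :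
    ∃ σ : Fin (N + 1) → Γ(M, ⊤), ∀ z : Γ(M, ⊤), ∃ c : Fin (N + 1) → k,
      z = ∑ j, (X ↘ Spec (CommRingCat.of k)).appTop ((Scheme.ΓSpecIso (CommRingCat.of k)).inv (c j)) • σ j := by
  haveI := CurveCohLib.isNoetherian_of_proper (k := k) (X := X)
  haveI := CurveCohLib.finite_HH (k := k) hM 0
  let b := Module.finBasisOfFinrankEq k (Coh.HH X M 0) hN
  let e := Sheaf.H.equiv₀ (Coh.toAb M) isTerminalTop
  refine ⟨fun j => (e (b j) : Γ(M, ⊤)), fun z => ⟨fun j => b.repr (e.symm z) j, ?_⟩⟩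
  conv_lhs => rw [← e.apply_symm_apply z, ← b.sum_repr (e.symm z)]
  refine (map_sum e _ _).trans (Finset.sum_congr rfl fun j _ => ?_)
  refine (CurveCohLib.h0Equiv_smul M _ _).trans ?_
  refine congrArg (fun c : Γ(X, ⊤) => c • (show Γ(M, ⊤) from e (b j))) ?_
  exact ConcreteCategory.congr_hom (X.presheaf.map_id (op ⊤)) _

include hA hcov in
theorem exists_locus_pow (x : X) : ∀ j, ∃ z : Γ(CohB1.tensorPow A j, ⊤), x ∈ TrivBasic.locus z
  | 0 => ⟨(1 : Γ(X, ⊤)), TrivBasic.le_locus (U := ⊤) (by rw [AModX.res_self]; exact InvX.isFrame_one ⊤) trivial⟩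
  | j + 1 => by
    obtain ⟨i, hi⟩ := hcov x
    obtain ⟨z, hz⟩ := exists_locus_pow x j
    refine ⟨InvX.tmul z (t i), TrivBasic.le_locus (U := TrivBasic.locus z ⊓ TrivBasic.locus (t i)) ?_ ⟨hz, hi⟩⟩
    show InvX.IsFrame (AModX.res (CohB1.tensorMod _ A) _ (InvX.tmul z (t i)))
    rw [InvX.res_tmul]
    exact isFrame_tmul (TrivBasic.isFrame_res_of_le_locus inf_le_left) (TrivBasic.isFrame_res_of_le_locus inf_le_right)

omit [X.Over (Spec (CommRingCat.of k))] [IsProper (X ↘ Spec (CommRingCat.of k))] in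
/-- Spanning sections generate wherever some section does. -/
theorem exists_locus_of_span (f : X ⟶ Spec (CommRingCat.of k)) {L : X.Modules} (hL : PicF.IsInvertible L)
    {N : ℕ} (σ : Fin N → Γ(L, ⊤))
    (hspan : ∀ z : Γ(L, ⊤), ∃ c : Fin N → k, z = ∑ j, f.appTop ((Scheme.ΓSpecIso (CommRingCat.of k)).inv (c j)) • σ j)
    {x : X} {z : Γ(L, ⊤)} (hz : x ∈ TrivBasic.locus z) : ∃ j, x ∈ TrivBasic.locus (σ j) := by
  by_contra! hne
  obtain ⟨V, hxV, fr, hfr⟩ := exists_frame hL x
  choose a ha using fun w : Γ(L, ⊤) => hfr.exists_coord le_rfl (AModX.res L (le_top : V ≤ ⊤) w)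
  simp only [AModX.res_self] at ha
  have hnot : ∀ w, x ∈ TrivBasic.locus w ↔ IsUnit (X.presheaf.germ V x hxV (a w)) := fun w => by
    rw [← X.mem_basicOpen _ x hxV, ← TrivBasic.locus_eq_basicOpen hfr (ha w)]
    exact ⟨fun h => ⟨h, hxV⟩, fun h => h.1⟩
  obtain ⟨c, rfl⟩ := hspan z
  refine (IsLocalRing.mem_maximalIdeal _).1 ?_ ((hnot _).1 hz)
  have hsum : a (∑ j, f.appTop ((Scheme.ΓSpecIso (CommRingCat.of k)).inv (c j)) • σ j) =
      ∑ j, AModX.resR (le_top : V ≤ ⊤) (f.appTop ((Scheme.ΓSpecIso (CommRingCat.of k)).inv (c j))) * a (σ j) := by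
    refine hfr.coord_unique le_rfl ?_
    rw [AModX.res_self, ← ha, map_sum, Finset.sum_smul]
    exact Finset.sum_congr rfl fun j _ => by rw [AModX.res_smul, ha (σ j), mul_smul]
  rw [hsum, map_sum]
  exact Ideal.sum_mem _ fun j _ => by
    rw [map_mul]
    exact Ideal.mul_mem_left _ _ ((IsLocalRing.mem_maximalIdeal _).2 fun h => hne j ((hnot _).2 h))

include k hdim hA hcov in
/-- A power `r ≥ 1` of a globally generated ample module with `H¹(A^(r-1)) = 0` is very ample. -/
theorem exists_embedding_pow [Nonempty X] (hamp : CohB1.IsAmple A) {r : ℕ}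
    (h : Subsingleton (Coh.HH X (CohB1.tensorPow A r) 1)) :
    ∃ (n : ℕ) (i : X ⟶ CohB1.ProjSpace n k), IsClosedImmersion i ∧
      i ≫ CohB1.ProjSpace.toSpec n k = X ↘ Spec (CommRingCat.of k) ∧
      Nonempty ((Scheme.Modules.pullback i).obj (Twist.twistProjSpace n k 1) ≅ CohB1.tensorPow A (r + 1)) := by
  let L := CohB1.tensorPow A (r + 1)
  have hL : PicF.IsInvertible L := isInvertible_tensorPow hA (r + 1)
  have hLamp := AmpleX.isAmple_tensorPow hamp (Nat.succ_pos r)
  haveI := CurveCohLib.isNoetherian_of_proper (k := k) (X := X)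
  haveI := CurveCohLib.finite_HH (k := k) (CurveDeg.isCoh_of_isInvertible hL) 0
  have h0 : 0 < Module.finrank k (Coh.HH X L 0) := by
    obtain ⟨x⟩ := ‹Nonempty X›
    obtain ⟨z, hz⟩ := exists_locus_pow hA t hcov x (r + 1)
    refine Module.finrank_pos_iff_exists_ne_zero.2 ⟨(Sheaf.H.equiv₀ (Coh.toAb L) isTerminalTop).symm z, fun h0 => ?_⟩
    have hz0 : z = 0 := ((Sheaf.H.equiv₀ (Coh.toAb L) isTerminalTop).apply_symm_apply z).symm.trans
      ((congrArg _ h0).trans (map_zero _))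
    subst hz0
    obtain ⟨W, hxW, hW⟩ := TrivBasic.mem_locus_iff.1 hz
    haveI : Nonempty W := ⟨⟨x, hxW⟩⟩
    exact one_ne_zero ((hW _ le_rfl).1 (a₁ := (1 : Γ(X, W))) (a₂ := 0) (by simp))
  obtain ⟨n, hn⟩ := Nat.exists_eq_add_one.2 h0
  obtain ⟨σ, hspan⟩ := exists_span k (CurveDeg.isCoh_of_isInvertible hL) hn
  have hσcov : ∀ x : X, ∃ j, x ∈ TrivBasic.locus (σ j) := fun x => by
    obtain ⟨z, hz⟩ := exists_locus_pow hA t hcov x (r + 1)
    exact exists_locus_of_span k (X ↘ Spec (CommRingCat.of k)) hL σ hspan hz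
  have hPm : ∀ m, ∃ G : X.Modules, PicF.IsInvertible G ∧ Subsingleton (Coh.HH X G 1) ∧
      Nonempty (CurveEmbed.P L m ≅ CohB1.tensorMod G A) := by
    intro m
    induction m with
    | zero => exact ⟨_, isInvertible_tensorPow hA r, h, ⟨Iso.refl _⟩⟩
    | succ m ih =>
      obtain ⟨G, hG, hG1, ⟨e⟩⟩ := ih
      have hP := CurveEmbed.isInvertible_P hL m
      exact ⟨_, isInvertible_tensorMod hP (isInvertible_tensorPow hA r),
        h1_pow k hdim hA t hcov hP
          (QCoh.subsingleton_HH_of_iso e.symm 1 (subsingleton_h1_tensor t k hdim hG hA hcov hG1)) r,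
        ⟨(AmpleVan.assocT (CurveEmbed.P L m) (CohB1.tensorPow A r) A).symm⟩⟩
  have hm : ∀ (m : ℕ) (u : Γ(CurveEmbed.P L (m + 1), ⊤)), ∃ a : Fin (n + 1) → Γ(CurveEmbed.P L m, ⊤),
      u = ((∑ j, InvX.tmul (a j) (σ j) : Γ(CohB1.tensorMod (CurveEmbed.P L m) L, ⊤))) := fun m u => by
    obtain ⟨G, hG, hG1, ⟨e⟩⟩ := hPm m
    have hu := mem_tens_pow k hdim hA t hcov hG hG1 e (r + 1) u
    induction hu using AddSubgroup.closure_induction with
    | mem y hy =>
      obtain ⟨⟨a, b⟩, rfl⟩ := hy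
      obtain ⟨c, rfl⟩ := hspan b
      refine ⟨fun j => (X ↘ Spec (CommRingCat.of k)).appTop ((Scheme.ΓSpecIso (CommRingCat.of k)).inv (c j)) • a, ?_⟩
      let R : Γ(L, ⊤) →+ Γ(CohB1.tensorMod (CurveEmbed.P L m) L, ⊤) :=
        AddMonoidHom.mk' (fun b => InvX.tmul a b) (tmul_add_right' a)
      show R _ = _
      rw [map_sum]
      exact Finset.sum_congr rfl fun j _ =>
        (InvX.tmul_smul_right _ _ _).trans (InvX.tmul_smul_left _ _ _).symm
    | zero =>
      refine ⟨0, ?_⟩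
      symm
      exact Finset.sum_eq_zero fun j _ => AmpleVan.tmul_zero_left _
    | add y z _ _ hy hz =>
      obtain ⟨a, rfl⟩ := hy
      obtain ⟨b, rfl⟩ := hz
      exact ⟨a + b, Finset.sum_add_distrib.symm.trans (Finset.sum_congr rfl fun j _ => (AmpleVan.tmul_add_left _ _ _).symm)⟩
    | neg y _ hy =>
      obtain ⟨a, rfl⟩ := hy
      refine ⟨-a, ?_⟩
      rw [← Finset.sum_neg_distrib]
      refine Finset.sum_congr rfl fun j _ => (eq_neg_of_add_eq_zero_left ?_).symm
      rw [Pi.neg_apply, ← AmpleVan.tmul_add_left, neg_add_cancel, AmpleVan.tmul_zero_left]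
  exact ⟨n, exists_embedding (X ↘ Spec (CommRingCat.of k)) hLamp σ hσcov hspan hm⟩

end Groth.Agent.CurveReg
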