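import Groth.Agent.CurveReg.Nef
import Groth.Agent.Lib.CurvePoint

/-! Twists by globally generated modules without first cohomology. -/

set_option linter.style.haveILetI false
set_option linter.unusedSectionVars false
set_option backward.isDefEq.respectTransparency false
set_option backward.isDefEq.respectTransparency.types false

universe u

open CategoryTheory CategoryTheory.Limits AlgebraicGeometry TopologicalSpace Opposite
open Groth.Agent.PnCoh.Finite (mapLin)

noncomputable section

namespace Groth.Agent.CurveReg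

open Groth.Agent Groth.Agent.InvX Groth.Agent.H23

variable {X : Scheme.{u}} (k : Type u) [Field k] [X.Over (Spec (CommRingCat.of k))]
  [IsProper (X ↘ Spec (CommRingCat.of k))] (hdim : topologicalKrullDim X ≤ 1)

theorem app_ofTop {M : X.Modules} (v : Γ(M, ⊤)) (W : X.Opens) (r : Γ(X, W)) :
    (QCoh.homOfTop v).app W (show Γ(Coh.structureModule X, W) from r) = r • AModX.res M (le_top : W ≤ ⊤) v :=
  QCoh.homOfTop_app v r

include k in
/-- A globally generated coherent module is spanned on affines by a basis of its sections. -/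
theorem exists_fin_epi {E : X.Modules} (hE : Coh.IsCoh E) (hgg : Curv2.IsGloballyGenerated E) :
    ∃ (n : ℕ) (b : Fin n → Γ(E, ⊤)), Epi (biproduct.desc fun i => QCoh.homOfTop (b i)) := by
  haveI := CurveCohLib.finite_HH (k := k) hE 0
  let B := Module.finBasis k (Coh.HH X E 0)
  let e₀ := Sheaf.H.equiv₀ (Coh.toAb E) isTerminalTop
  refine ⟨_, fun i => e₀ (B i), ⟨fun {T} φ ψ h => sub_eq_zero.1 ?_⟩⟩
  obtain ⟨ι, q, hq⟩ := hgg
  let χ := φ - ψ
  have hB : ∀ i, mapLin k χ 0 (B i) = 0 := fun i => by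
    have h1 : χ.app ⊤ (e₀ (B i)) = 0 := by
      have h2 : QCoh.homOfTop (e₀ (B i)) ≫ χ = 0 := by
        rw [← biproduct.ι_desc (fun j => QCoh.homOfTop (e₀ (B j))) i, Category.assoc]
        show _ ≫ _ ≫ (φ - ψ) = 0
        rw [Preadditive.comp_sub, h, sub_self, comp_zero]
      have h3 := congr(($h2).app ⊤ (1 : Γ(X, ⊤)))
      refine Eq.trans ?_ h3
      refine (congrArg (χ.app ⊤) ?_).symm
      refine (app_ofTop (e₀ (B i)) ⊤ 1).trans ?_
      rw [one_smul, AModX.res_self]
    apply (Sheaf.H.equiv₀ (Coh.toAb T) isTerminalTop).injective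
    refine ((Sheaf.H.equiv₀_naturality isTerminalTop ((QCoh.toAbFunctor X).map χ) _).symm.trans ?_).trans (map_zero _).symm
    exact h1
  have hall : ∀ v : Γ(E, ⊤), χ.app ⊤ v = 0 := fun v => by
    have h1 : mapLin k χ 0 (e₀.symm v) = 0 := LinearMap.congr_fun (B.ext (f₂ := 0) hB) _
    refine Eq.trans ?_ ((congrArg (Sheaf.H.equiv₀ (Coh.toAb T) isTerminalTop) h1).trans (map_zero _))
    refine Eq.trans ?_ (Sheaf.H.equiv₀_naturality isTerminalTop ((QCoh.toAbFunctor X).map χ) _)
    exact (congrArg (χ.app ⊤) (e₀.apply_symm_apply v)).symm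
  show χ = 0
  rw [← cancel_epi q, comp_zero]
  refine Sigma.hom_ext (f := fun _ : ι => SheafOfModules.unit X.ringCatSheaf) _ _ fun i => ?_
  rw [comp_zero]
  refine CurveRR.hom_ext_one (φ := (Sigma.ι (fun _ : ι => SheafOfModules.unit X.ringCatSheaf) i ≫ q ≫ χ :
    Coh.structureModule X ⟶ _)) (ψ := 0) ?_
  exact hall _

include k hdim in
/-- Twisting by a globally generated module keeps `H¹ = 0`. -/
theorem subsingleton_h1_twist_gg {G E : X.Modules} (hG : Coh.IsQCoh G) (hE : Coh.IsCoh E)
    (hgg : Curv2.IsGloballyGenerated E) (h : Subsingleton (Coh.HH X G 1)) :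
    Subsingleton (Coh.HH X (CohB1.tensorMod G E) 1) := by
  obtain ⟨n, b, hb⟩ := exists_fin_epi k hE hgg
  let p := biproduct.desc fun i => QCoh.homOfTop (b i)
  haveI : Epi p := hb
  haveI : Epi (mulAll b G) := ⟨fun {T} φ ψ h => AmpleVan.hom_ext_tmul fun U m e => by
    refine AModX.eq_of_locally _ _ fun x hx => ?_
    obtain ⟨W, hW, hxW, hWU'⟩ := exists_isAffineOpen_mem_and_subset (x := x) (U := U) hx
    have hWU : W ≤ U := hWU'
    refine ⟨W, hWU, hxW, ?_⟩
    obtain ⟨w, hw⟩ := QCoh.app_surjective_of_epi (isQCoh_sum' QCoh.isQCoh_structureModule) hE.1 p hW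
      (AModX.res E hWU e)
    let c : Fin n → Γ(X, W) := fun i => (biproduct.π (fun _ : Fin n => Coh.structureModule X) i).app W w
    have he : AModX.res E hWU e = ∑ i, c i • AModX.res E (le_top : W ≤ ⊤) (b i) := by
      refine hw.symm.trans ?_
      rw [sum_components (fun _ : Fin n => Coh.structureModule X) w, map_sum]
      refine Finset.sum_congr rfl fun i _ => ?_
      refine Eq.trans ?_ (app_ofTop (b i) W (c i))
      exact congr(($(biproduct.ι_desc (fun j => QCoh.homOfTop (b j)) i)).app W (c i))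
    rw [← AModX.app_res, ← AModX.app_res, show AModX.res ((AmpleVan.tw E).obj G) hWU (InvX.tmul m e) = InvX.tmul (AModX.res G hWU m) (AModX.res E hWU e) from InvX.res_tmul hWU m e, he]
    let R : Γ(E, W) →+ Γ(CohB1.tensorMod G E, W) :=
      AddMonoidHom.mk' (fun y => InvX.tmul (AModX.res G hWU m) y) fun y y' => QCoh.tmS_add_right G E _ y y'
    show φ.app W (R _) = ψ.app W (R _)
    rw [map_sum, map_sum, map_sum]
    refine Finset.sum_congr rfl fun i _ => ?_
    have hi : R (c i • AModX.res E (le_top : W ≤ ⊤) (b i)) = (mulAll b G).app W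
        ((biproduct.ι (fun _ : Fin n => G) i).app W (c i • AModX.res G hWU m)) := by
      rw [mulAll_ι]
      exact (InvX.tmul_smul_right _ _ _).trans (InvX.tmul_smul_left _ _ _).symm
    rw [hi]
    exact congr(($h).app W ((biproduct.ι (fun _ : Fin n => G) i).app W (c i • AModX.res G hWU m)))⟩
  exact subsingleton_h1_of_epi k hdim (isQCoh_sum' hG) (KFlatLib.isQCoh_tensor hG hE.1) (mulAll b G)
    (subsingleton_HH_sum _ k 1 fun _ => h)

include k hdim in
/-- The ideal of a rational point has no first cohomology. -/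
theorem subsingleton_h1_ptMod [IsAlgClosed k] (h1 : Subsingleton (Coh.HH X (Coh.structureModule X) 1)) (p : X)
    (hp : IsClosed ({p} : Set X)) : Subsingleton (Coh.HH X (CurvePoint.ptMod p hp) 1) := by
  let D := CurvePoint.ptIdeal p hp
  let C := D.subscheme
  haveI : IsIntegral C := by
    have h : (⟨{p}, hp⟩ : Closeds X) = Closeds.closure {p} := Closeds.ext hp.closure_eq.symm
    show IsIntegral (Scheme.IdealSheafData.vanishingIdeal (⟨{p}, hp⟩ : Closeds X)).subscheme
    rw [h]
    exact QCoh.isIntegral_closure_point p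
  haveI := CurvePoint.epi_toSubscheme D
  have hS : (ShortComplex.mk (ClSub.idealModι D) (ClSub.toSubscheme D) (kernel.condition _)).ShortExact :=
    ShortComplex.ShortExact.mk' (ShortComplex.exact_of_f_is_kernel _ (kernelIsKernel _))
      (inferInstanceAs (Mono (kernel.ι (ClSub.toSubscheme D)))) inferInstance
  letI : C.Over (Spec (CommRingCat.of k)) := ⟨D.subschemeι ≫ (X ↘ Spec (CommRingCat.of k))⟩
  haveI : IsProper (C ↘ Spec (CommRingCat.of k)) :=
    inferInstanceAs (IsProper (D.subschemeι ≫ (X ↘ Spec (CommRingCat.of k))))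
  have hQ : Module.finrank k (Coh.HH X (ClSub.quotMod D) 0) = 1 := by
    obtain ⟨e⟩ := PnCoh.exists_linearEquiv_push k D.subschemeι rfl (M := Coh.structureModule C) QCoh.isQCoh_structureModule 0
    exact e.finrank_eq.symm.trans (finrank_h0_integral k)
  let η := ClSub.toSubscheme D
  let v : Coh.HH X (ClSub.quotMod D) 0 :=
    mapLin k η 0 ((Sheaf.H.equiv₀ (Coh.toAb (Coh.structureModule X)) isTerminalTop).symm (1 : Γ(X, ⊤)))
  have hv : v ≠ 0 := fun hv => by
    have h1 : η.app ⊤ (show Γ(Coh.structureModule X, ⊤) from (1 : Γ(X, ⊤))) = 0 := by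
      refine Eq.trans ?_ ((congrArg (Sheaf.H.equiv₀ (Coh.toAb (ClSub.quotMod D)) isTerminalTop) hv).trans (map_zero _))
      refine Eq.trans ?_ (Sheaf.H.equiv₀_naturality isTerminalTop ((QCoh.toAbFunctor X).map η) _)
      exact congrArg (η.app ⊤) (AddEquiv.apply_symm_apply _ _).symm
    haveI : Nonempty ↥(D.subschemeι ⁻¹ᵁ ⊤) := ⟨⟨genericPoint C, trivial⟩⟩
    refine one_ne_zero (α := Γ(C, D.subschemeι ⁻¹ᵁ ⊤)) ?_
    exact (map_one (D.subschemeι.app ⊤).hom).symm.trans h1
  have hsurj : Function.Surjective (mapLin k η 0) := fun y => by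
    obtain ⟨c, hc⟩ := exists_smul_eq_of_finrank_eq_one hQ hv y
    exact ⟨c • _, (map_smul _ _ _).trans hc⟩
  refine subsingleton_of_forall_eq 0 fun w => ?_
  obtain ⟨z, rfl⟩ := (CurveCohLib.ker_mapLin_f_succ k hS 0).le (LinearMap.mem_ker.2 (h1.elim _ 0) : w ∈ _)
  exact LinearMap.mem_ker.1 ((CurveCohLib.ker_deltaLin k hS 0).ge (hsurj z) : z ∈ _)

end Groth.Agent.CurveReg
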